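import Groth.Agent.H16Derived.Res.SpliceProj

/-!
# Functoriality of mapping cocones
-/

set_option autoImplicit false
set_option linter.style.haveILetI false

universe v v' v'' u u' u''

open CategoryTheory CategoryTheory.Limits CategoryTheory.Pretriangulated CochainComplex HomologicalComplex
open Groth.Agent.H16Derived.Res
open scoped ZeroObject

namespace Groth.Agent.H16Derived.CdShift

variable {A : Type u} [Category.{v} A] [Abelian A]

section

variable {K L K' L' K'' L'' : CochainComplex A ℤ}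

lemma cocone_hom_ext {M : CochainComplex A ℤ} {φ : K ⟶ L} {f g : M ⟶ mappingCocone φ}
    (h₁ : f ≫ mappingCocone.fst φ = g ≫ mappingCocone.fst φ)
    (h₂ : ∀ p, f.f p ≫ (mappingCocone.snd φ).v p (p + -1) rfl = g.f p ≫ (mappingCocone.snd φ).v p (p + -1) rfl) :
    f = g := by
  refine HomologicalComplex.hom_ext _ _ fun p => mappingCocone_hom_ext _ ?_ (h₂ p)
  exact congrArg (fun t => HomologicalComplex.Hom.f t p) h₁

@[reassoc]
lemma coconeMap_fst (φ : K ⟶ L) (φ' : K' ⟶ L') (a : K ⟶ K') (b : L ⟶ L') (comm : φ ≫ b = a ≫ φ') :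
    coconeMap φ φ' a b comm ≫ mappingCocone.fst φ' = mappingCocone.fst φ ≫ a := by
  ext p; exact coconeMap_f_fst φ φ' a b comm p

lemma coconeMap_id (φ : K ⟶ L) :
    coconeMap φ φ (𝟙 K) (𝟙 L) (by simp) = 𝟙 (mappingCocone φ) := by
  refine cocone_hom_ext ?_ fun p => ?_
  · simp [coconeMap_fst]
  · simp [coconeMap_f_snd]

lemma coconeMap_comp (φ : K ⟶ L) (φ' : K' ⟶ L') (φ'' : K'' ⟶ L'') (a : K ⟶ K') (b : L ⟶ L')
    (h : φ ≫ b = a ≫ φ') (a' : K' ⟶ K'') (b' : L' ⟶ L'') (h' : φ' ≫ b' = a' ≫ φ'') :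
    coconeMap φ φ' a b h ≫ coconeMap φ' φ'' a' b' h' =
      coconeMap φ φ'' (a ≫ a') (b ≫ b') (by rw [reassoc_of% h, h', Category.assoc]) := by
  refine cocone_hom_ext ?_ fun p => ?_
  · simp [coconeMap_fst, coconeMap_fst_assoc]
  · simp [coconeMap_f_snd, coconeMap_f_snd_assoc]

/-- The map to a cocone with vanishing second component. -/
noncomputable def lift₀ {M : CochainComplex A ℤ} (φ : K ⟶ L) (f : M ⟶ K) (h : f ≫ φ = 0) :
    M ⟶ mappingCocone φ :=
  mappingCocone.lift φ f 0 (by simp [h])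

@[reassoc (attr := simp)]
lemma lift₀_fst {M : CochainComplex A ℤ} (φ : K ⟶ L) (f : M ⟶ K) (h : f ≫ φ = 0) :
    lift₀ φ f h ≫ mappingCocone.fst φ = f := mappingCocone.lift_fst _ _ _ _

@[reassoc (attr := simp)]
lemma lift₀_f_snd {M : CochainComplex A ℤ} (φ : K ⟶ L) (f : M ⟶ K) (h : f ≫ φ = 0) (p : ℤ) :
    (lift₀ φ f h).f p ≫ (mappingCocone.snd φ).v p (p + -1) rfl = 0 := by
  simp [lift₀]

lemma comp_lift₀ {M M' : CochainComplex A ℤ} (φ : K ⟶ L) (g : M' ⟶ M) (f : M ⟶ K) (h : f ≫ φ = 0) :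
    g ≫ lift₀ φ f h = lift₀ φ (g ≫ f) (by rw [Category.assoc, h, comp_zero]) := by
  refine cocone_hom_ext ?_ fun p => ?_
  · simp
  · simp

lemma lift₀_coconeMap {M : CochainComplex A ℤ} (φ : K ⟶ L) (φ' : K' ⟶ L') (f : M ⟶ K) (h : f ≫ φ = 0)
    (a : K ⟶ K') (b : L ⟶ L') (comm : φ ≫ b = a ≫ φ') :
    lift₀ φ f h ≫ coconeMap φ φ' a b comm =
      lift₀ φ' (f ≫ a) (by rw [Category.assoc, ← comm, reassoc_of% h, zero_comp]) := by
  refine cocone_hom_ext ?_ fun p => ?_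
  · simp [coconeMap_fst]
  · simp [coconeMap_f_snd]

lemma lift₀_zero {M : CochainComplex A ℤ} (φ : K ⟶ L) :
    lift₀ φ (0 : M ⟶ K) zero_comp = 0 := by
  refine cocone_hom_ext ?_ fun p => ?_
  · simp
  · simp

end

/-- Cocones of a short exact sequence of arrows form a short exact sequence. -/
theorem shortExact_coconeMap {S T : ShortComplex (CochainComplex A ℤ)} (hS : S.ShortExact)
    (hT : T.ShortExact) (φ : S ⟶ T) :
    ∃ w : coconeMap φ.τ₁ φ.τ₂ S.f T.f φ.comm₁₂ ≫ coconeMap φ.τ₂ φ.τ₃ S.g T.g φ.comm₂₃ = 0,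
      (ShortComplex.mk _ _ w).ShortExact := by
  have w : coconeMap φ.τ₁ φ.τ₂ S.f T.f φ.comm₁₂ ≫ coconeMap φ.τ₂ φ.τ₃ S.g T.g φ.comm₂₃ = 0 := by
    refine cocone_hom_ext ?_ fun p => ?_
    · simp [coconeMap_fst, coconeMap_fst_assoc]
    · rw [HomologicalComplex.comp_f, Category.assoc, coconeMap_f_snd, coconeMap_f_snd_assoc,
        ← HomologicalComplex.comp_f, T.zero]
      simp
  refine ⟨w, HomologicalComplex.shortExact_of_degreewise_shortExact _ fun p => ?_⟩
  have hs := hS.map_of_exact (HomologicalComplex.eval A (ComplexShape.up ℤ) p)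
  have ht := hT.map_of_exact (HomologicalComplex.eval A (ComplexShape.up ℤ) (p + -1))
  let α := (coconeMap φ.τ₁ φ.τ₂ S.f T.f φ.comm₁₂).f p
  let β := (coconeMap φ.τ₂ φ.τ₃ S.g T.g φ.comm₂₃).f p
  haveI : Mono (S.f.f p) := hs.mono_f
  haveI : Mono (T.f.f (p + -1)) := ht.mono_f
  haveI : Epi (S.g.f p) := hs.epi_g
  haveI : Epi (T.g.f (p + -1)) := ht.epi_g
  haveI : Mono α := Preadditive.mono_of_cancel_zero _ fun {W} x hx => by
    apply mappingCocone_hom_ext
    · rw [zero_comp, ← cancel_mono (S.f.f p), zero_comp, Category.assoc, ← coconeMap_f_fst φ.τ₁ φ.τ₂ S.f T.f φ.comm₁₂,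
        reassoc_of% hx, zero_comp]
    · rw [zero_comp, ← cancel_mono (T.f.f (p + -1)), zero_comp, Category.assoc,
        ← coconeMap_f_snd φ.τ₁ φ.τ₂ S.f T.f φ.comm₁₂, reassoc_of% hx, zero_comp]
  haveI : Epi β := Preadditive.epi_of_cancel_zero _ fun {W} x hx => by
    have e₁ : (mappingCocone.inl φ.τ₂).v p p (add_zero p) ≫ β =
        S.g.f p ≫ (mappingCocone.inl φ.τ₃).v p p (add_zero p) := by
      apply mappingCocone_hom_ext <;> simp [β, coconeMap_f_fst, coconeMap_f_snd]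
    have e₂ : (mappingCocone.inr φ.τ₂).1.v (p + -1) p (by omega) ≫ β =
        T.g.f (p + -1) ≫ (mappingCocone.inr φ.τ₃).1.v (p + -1) p (by omega) := by
      apply mappingCocone_hom_ext <;> simp [β, coconeMap_f_fst, coconeMap_f_snd]
    have a₁ : (mappingCocone.inl φ.τ₃).v p p (add_zero p) ≫ x = 0 := by
      rw [← cancel_epi (S.g.f p), comp_zero, ← reassoc_of% e₁, hx, comp_zero]
    have a₂ : (mappingCocone.inr φ.τ₃).1.v (p + -1) p (by omega) ≫ x = 0 := by
      rw [← cancel_epi (T.g.f (p + -1)), comp_zero, ← reassoc_of% e₂, hx, comp_zero]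
    rw [← Category.id_comp x, ← mappingCocone.id_X φ.τ₃ p (p + -1) rfl]
    simp [a₁, a₂]
  refine { exact := ?_, mono_f := ‹Mono α›, epi_g := ‹Epi β› }
  rw [ShortComplex.exact_iff_exact_up_to_refinements]
  intro W x hx
  change W ⟶ (mappingCocone φ.τ₂).X p at x
  change x ≫ β = 0 at hx
  have k₁ : (x ≫ (mappingCocone.fst φ.τ₂).f p) ≫ S.g.f p = 0 := by
    rw [Category.assoc, ← coconeMap_f_fst φ.τ₂ φ.τ₃ S.g T.g φ.comm₂₃, reassoc_of% hx, zero_comp]
  have k₂ : (x ≫ (mappingCocone.snd φ.τ₂).v p (p + -1) rfl) ≫ T.g.f (p + -1) = 0 := by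
    rw [Category.assoc, ← coconeMap_f_snd φ.τ₂ φ.τ₃ S.g T.g φ.comm₂₃, reassoc_of% hx, zero_comp]
  obtain ⟨l₁, hl₁⟩ : ∃ l : W ⟶ S.X₁.X p, l ≫ S.f.f p = x ≫ (mappingCocone.fst φ.τ₂).f p :=
    haveI := hs.mono_f
    ⟨hs.exact.lift _ k₁, hs.exact.lift_f _ k₁⟩
  obtain ⟨l₂, hl₂⟩ : ∃ l : W ⟶ T.X₁.X (p + -1), l ≫ T.f.f (p + -1) = x ≫ (mappingCocone.snd φ.τ₂).v p (p + -1) rfl :=
    haveI := ht.mono_f
    ⟨ht.exact.lift _ k₂, ht.exact.lift_f _ k₂⟩
  suffices h : ∃ y : W ⟶ (mappingCocone φ.τ₁).X p, x = y ≫ α from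
    ⟨W, 𝟙 W, inferInstance, h.choose, (Category.id_comp x).trans h.choose_spec⟩
  refine ⟨l₁ ≫ (mappingCocone.inl φ.τ₁).v p p (add_zero p) +
    l₂ ≫ (mappingCocone.inr φ.τ₁).1.v (p + -1) p (by omega), ?_⟩
  apply mappingCocone_hom_ext
  · simp [α, coconeMap_f_fst, hl₁]
  · simp [α, coconeMap_f_snd, hl₂]

/-- The comparison of a short exact sequence with the cocone. -/
theorem quasiIso_lift₀ {S : ShortComplex (CochainComplex A ℤ)} (hS : S.ShortExact)
    {L : CochainComplex A ℤ} (f : S.X₃ ⟶ L) [QuasiIso f] :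
    QuasiIso (lift₀ (S.g ≫ f) S.f (by rw [S.zero_assoc, zero_comp])) := by
  let β : mappingCocone (S.g ≫ f) ⟶ mappingCocone f := coconeMap (S.g ≫ f) f S.g (𝟙 L) (Category.comp_id _)
  let T : ShortComplex (CochainComplex A ℤ) :=
    ShortComplex.mk (0 : (0 : CochainComplex A ℤ) ⟶ L) (𝟙 L) zero_comp
  have hT : T.ShortExact :=
    ShortComplex.Splitting.shortExact
      { r := 0, s := 𝟙 L, f_r := (isZero_zero _).eq_of_src _ _, s_g := Category.comp_id _, id := by simp [T] }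
  let φ : S ⟶ T :=
    { τ₁ := 0, τ₂ := S.g ≫ f, τ₃ := f, comm₁₂ := by simp [T], comm₂₃ := by simp [T] }
  obtain ⟨w, hw⟩ := shortExact_coconeMap hS hT φ
  haveI := hw.mono_f
  haveI : QuasiIso (coconeMap φ.τ₁ φ.τ₂ S.f T.f φ.comm₁₂) :=
    KInjRes.quasiIso_of_mono _ fun i => HomologicalComplex.ExactAt.of_iso (acyclic_mappingCocone f i)
      (IsColimit.coconePointUniqueUpToIso hw.gIsCokernel (colimit.isColimit _))
  let z : S.X₁ ⟶ (0 : CochainComplex A ℤ) := 0
  let e : S.X₁ ≅ mappingCocone z :=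
    { hom := lift₀ z (𝟙 _) (by simp [z])
      inv := mappingCocone.fst z
      hom_inv_id := lift₀_fst _ _ _
      inv_hom_id := by
        refine cocone_hom_ext ?_ fun p => ?_
        · simp
        · exact ((HomologicalComplex.eval A (ComplexShape.up ℤ) _).map_isZero (isZero_zero _)).eq_of_tgt _ _ }
  have : lift₀ (S.g ≫ f) S.f (by rw [S.zero_assoc, zero_comp]) =
      e.hom ≫ coconeMap φ.τ₁ φ.τ₂ S.f T.f φ.comm₁₂ := by
    show _ = lift₀ z (𝟙 S.X₁) (by simp [z]) ≫ _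
    rw [lift₀_coconeMap]
    simp only [Category.id_comp]
    rfl
  rw [this]
  haveI : IsIso e.hom := e.isIso_hom
  exact quasiIso_comp (hφ := inferInstance) (hφ' := ‹_›) _ _

section functor

variable {J : Type u''} [Category.{v''} J] {Φ Ψ : J ⥤ CochainComplex A ℤ} (ν : Φ ⟶ Ψ)

/-- The functorial cocone of a natural transformation. -/
noncomputable def coconeFunctor : J ⥤ CochainComplex A ℤ where
  obj j := mappingCocone (ν.app j)
  map f := coconeMap (ν.app _) (ν.app _) (Φ.map f) (Ψ.map f) (ν.naturality f).symm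
  map_id j := by simp only [CategoryTheory.Functor.map_id]; exact coconeMap_id _
  map_comp f g := by simp only [Functor.map_comp]; exact (coconeMap_comp _ _ _ _ _ _ _ _ _).symm

/-- The functorial version of `lift₀`. -/
noncomputable def coconeLift {Ξ : J ⥤ CochainComplex A ℤ} (μ : Ξ ⟶ Φ) (h : μ ≫ ν = 0) :
    Ξ ⟶ coconeFunctor ν where
  app j := lift₀ (ν.app j) (μ.app j) (by rw [← NatTrans.comp_app, h]; rfl)
  naturality j j' f := by
    show _ ≫ lift₀ (ν.app j') (μ.app j') _ = lift₀ (ν.app j) (μ.app j) _ ≫ coconeMap _ _ _ _ _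
    rw [comp_lift₀, lift₀_coconeMap]
    simp only [μ.naturality]

variable {Φ' Ψ' : J ⥤ CochainComplex A ℤ} {ν' : Φ' ⟶ Ψ'}

/-- Functoriality of `coconeFunctor`. -/
noncomputable def coconeFunctorMap (a : Φ ⟶ Φ') (b : Ψ ⟶ Ψ') (comm : ν ≫ b = a ≫ ν') :
    coconeFunctor ν ⟶ coconeFunctor ν' where
  app j := coconeMap (ν.app j) (ν'.app j) (a.app j) (b.app j) (NatTrans.congr_app comm j)
  naturality j j' f := by
    show coconeMap _ _ _ _ _ ≫ coconeMap _ _ _ _ _ = coconeMap _ _ _ _ _ ≫ coconeMap _ _ _ _ _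
    rw [coconeMap_comp, coconeMap_comp]
    simp only [a.naturality, b.naturality]

end functor

section map

lemma alg_left {C : Type u'} [Category.{v'} C] [Preadditive C] {X Y Z W : C} (a : X ⟶ Y) (i : Y ⟶ Z)
    (b : X ⟶ W) (j : W ⟶ Z) (s : Z ⟶ Y) (h₁ : i ≫ s = 𝟙 Y) (h₂ : j ≫ s = 0) : (a ≫ i + b ≫ j) ≫ s = a := by
  simp [h₁, h₂]

lemma alg_right {C : Type u'} [Category.{v'} C] [Preadditive C] {X Y Z W : C} (a : X ⟶ Y) (i : Y ⟶ Z)
    (b : X ⟶ W) (j : W ⟶ Z) (s : Z ⟶ W) (h₁ : i ≫ s = 0) (h₂ : j ≫ s = 𝟙 W) : (a ≫ i + b ≫ j) ≫ s = b := by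
  simp [h₁, h₂]

variable {A' : Type u'} [Category.{v'} A'] [Abelian A'] (F : A ⥤ A') [F.Additive]
  {K L : CochainComplex A ℤ} (φ : K ⟶ L)

/-- Additive functors commute with cocones. -/
noncomputable def mapCoconeIso :
    (F.mapHomologicalComplex (ComplexShape.up ℤ)).obj (mappingCocone φ) ≅
      mappingCocone ((F.mapHomologicalComplex (ComplexShape.up ℤ)).map φ) :=
  ((F.mapHomologicalComplex (ComplexShape.up ℤ)).commShiftIso (-1 : ℤ)).app (mappingCone φ) ≪≫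
    (CategoryTheory.shiftFunctor (CochainComplex A' ℤ) (-1 : ℤ)).mapIso (CochainComplex.mappingCone.mapHomologicalComplexIso φ F)

@[reassoc]
lemma mapCoconeIso_f_fst (p : ℤ) :
    (mapCoconeIso F φ).hom.f p ≫ (mappingCocone.fst ((F.mapHomologicalComplex (ComplexShape.up ℤ)).map φ)).f p =
      F.map ((mappingCocone.fst φ).f p) := by
  simp [mapCoconeIso, mappingCocone.fst, mappingCocone,
    HomComplex.Cochain.leftShift_v (n := 1) _ _ _ _ _ p _ (p + -1) (by omega),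
    mappingCone.mapHomologicalComplexIso,
    mappingCone.mapHomologicalComplexXIso_eq φ F (p + -1) p (by omega)]
  erw [neg_neg, neg_neg, Category.id_comp, Category.id_comp, Category.id_comp]
  exact alg_left _ _ _ _ _ (mappingCone.inl_v_fst_v _ _ _ _) (mappingCone.inr_f_fst_v _ _ _ _)

@[reassoc]
lemma mapCoconeIso_f_snd (p : ℤ) :
    (mapCoconeIso F φ).hom.f p ≫
        (mappingCocone.snd ((F.mapHomologicalComplex (ComplexShape.up ℤ)).map φ)).v p (p + -1) rfl =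
      F.map ((mappingCocone.snd φ).v p (p + -1) rfl) := by
  simp [mapCoconeIso, mappingCocone.snd, mappingCocone, Int.negOnePow_even 2 ⟨1, rfl⟩,
    HomComplex.Cochain.leftShift_v _ _ _ _ _ _ _ _ (add_zero (p + -1)),
    mappingCone.mapHomologicalComplexIso,
    mappingCone.mapHomologicalComplexXIso_eq φ F (p + -1) p (by omega)]
  erw [Category.id_comp, Category.id_comp, Category.id_comp]
  exact alg_right _ _ _ _ _ (mappingCone.inl_v_snd_v _ _ _ _) (mappingCone.inr_f_snd_v _ _)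

end map

end Groth.Agent.H16Derived.CdShift
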