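import Groth.Agent.H16Derived.Res.Unbounded
import Mathlib.CategoryTheory.Abelian.Injective.Resolution
import Mathlib.Algebra.Homology.HomologicalComplexAbelian
import Mathlib.Algebra.Homology.QuasiIso

/-!
# Injective resolutions of complexes, degreewise
-/

set_option autoImplicit false
set_option linter.style.haveILetI false

universe v u

open CategoryTheory CategoryTheory.Limits HomologicalComplex

namespace Groth.Agent.H16Derived.CdShift

variable {A : Type u} [Category.{v} A] [Abelian A]

/-- The first projection. -/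
noncomputable def cfst (Y : ℤ → A) (p : ℤ) : (Res.contr Y).X p ⟶ Y p := biprod.fst

/-- The second projection. -/
noncomputable def csnd (Y : ℤ → A) (p : ℤ) : (Res.contr Y).X p ⟶ Y (p + 1) := biprod.snd

/-- The pairing. -/
noncomputable def clift (Y : ℤ → A) (p : ℤ) {W : A} (a : W ⟶ Y p) (b : W ⟶ Y (p + 1)) :
    W ⟶ (Res.contr Y).X p := biprod.lift a b

@[reassoc (attr := simp)]
lemma clift_fst (Y : ℤ → A) (p : ℤ) {W : A} (a : W ⟶ Y p) (b : W ⟶ Y (p + 1)) :
    clift Y p a b ≫ cfst Y p = a := biprod.lift_fst _ _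

@[reassoc (attr := simp)]
lemma clift_snd (Y : ℤ → A) (p : ℤ) {W : A} (a : W ⟶ Y p) (b : W ⟶ Y (p + 1)) :
    clift Y p a b ≫ csnd Y p = b := biprod.lift_snd _ _

lemma contr_hom_ext (Y : ℤ → A) {p : ℤ} {W : A} {f g : W ⟶ (Res.contr Y).X p}
    (h₁ : f ≫ cfst Y p = g ≫ cfst Y p) (h₂ : f ≫ csnd Y p = g ≫ csnd Y p) : f = g :=
  biprod.hom_ext _ _ h₁ h₂

lemma contr_d (Y : ℤ → A) (p : ℤ) :
    (Res.contr Y).d p (p + 1) = biprod.snd ≫ biprod.inl := by
  simp [Res.contr]

@[reassoc (attr := simp)]
lemma contr_d_fst (Y : ℤ → A) (p : ℤ) :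
    (Res.contr Y).d p (p + 1) ≫ cfst Y (p + 1) = csnd Y p := by
  rw [contr_d]
  exact (Category.assoc _ _ _).trans ((congrArg (biprod.snd ≫ ·) biprod.inl_fst).trans (Category.comp_id _))

@[reassoc (attr := simp)]
lemma contr_d_snd (Y : ℤ → A) (p : ℤ) :
    (Res.contr Y).d p (p + 1) ≫ csnd Y (p + 1) = 0 := by
  rw [contr_d]
  exact (Category.assoc _ _ _).trans ((congrArg (biprod.snd ≫ ·) biprod.inl_snd).trans comp_zero)

lemma clift_comm {K : CochainComplex A ℤ} (Y : ℤ → A) (a : ∀ p, K.X p ⟶ Y p) (p : ℤ) :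
    clift Y p (a p) (K.d p (p + 1) ≫ a (p + 1)) ≫ (Res.contr Y).d p (p + 1) =
      K.d p (p + 1) ≫ clift Y (p + 1) (a (p + 1)) (K.d (p + 1) (p + 1 + 1) ≫ a (p + 1 + 1)) := by
  refine contr_hom_ext Y ?_ ?_ <;> simp

/-- Chain maps into `contr Y`. -/
noncomputable def toContr (K : CochainComplex A ℤ) (Y : ℤ → A) (a : ∀ p, K.X p ⟶ Y p) :
    K ⟶ Res.contr Y where
  f p := clift Y p (a p) (K.d p (p + 1) ≫ a (p + 1))
  comm' p q hpq := by
    obtain rfl : p + 1 = q := hpq
    exact clift_comm Y a p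

lemma injective_contr (Y : ℤ → A) [∀ i, Injective (Y i)] : Injective (Res.contr Y) := by
  refine ⟨fun {K L} g m _ => ?_⟩
  haveI : ∀ p, Mono (m.f p) := fun p =>
    inferInstanceAs (Mono ((HomologicalComplex.eval A (ComplexShape.up ℤ) p).map m))
  refine ⟨toContr L Y fun p => Injective.factorThru (g.f p ≫ cfst Y p) (m.f p),
    HomologicalComplex.hom_ext _ _ fun p => contr_hom_ext Y ?_ ?_⟩
  · simp [toContr, Injective.comp_factorThru]
  · have hg : g.f p ≫ csnd Y p = K.d p (p + 1) ≫ g.f (p + 1) ≫ cfst Y (p + 1) := by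
      rw [← g.comm_assoc p (p + 1), contr_d_fst]
    rw [HomologicalComplex.comp_f, hg, Category.assoc]
    simp [toContr, Injective.comp_factorThru]

lemma exists_mono_contr [EnoughInjectives A] (K : CochainComplex A ℤ) :
    ∃ (Y : ℤ → A) (ι : K ⟶ Res.contr Y), (∀ i, Injective (Y i)) ∧ Mono ι := by
  let Y : ℤ → A := fun p => Injective.under (K.X p)
  let ι : K ⟶ Res.contr Y := toContr K Y fun p => Injective.ι (K.X p)
  haveI : ∀ p, Mono (ι.f p) := fun p =>
    mono_of_mono_fac (show ι.f p ≫ cfst Y p = Injective.ι (K.X p) from clift_fst _ _ _ _)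
  exact ⟨Y, ι, fun p => inferInstanceAs (Injective (Injective.under (K.X p))), HomologicalComplex.mono_of_mono_f _ inferInstance⟩

instance enoughInjectives_complex [EnoughInjectives A] : EnoughInjectives (CochainComplex A ℤ) :=
  ⟨fun K => by
    obtain ⟨Y, ι, hY, hι⟩ := exists_mono_contr K
    exact ⟨{ J := Res.contr Y, injective := injective_contr Y, f := ι, mono := hι }⟩⟩

lemma injective_X [EnoughInjectives A] (I : CochainComplex A ℤ) [Injective I] (q : ℤ) :
    Injective (I.X q) := by
  obtain ⟨Y, ι, hY, hι⟩ := exists_mono_contr I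
  haveI := hY q
  haveI := hY (q + 1)
  haveI : Injective ((HomologicalComplex.eval A (ComplexShape.up ℤ) q).obj (Res.contr Y)) :=
    inferInstanceAs (Injective (Y q ⊞ Y (q + 1)))
  let r : Retract I (Res.contr Y) := ⟨ι, Injective.factorThru (𝟙 I) ι, Injective.comp_factorThru _ _⟩
  let r' := r.map (HomologicalComplex.eval A (ComplexShape.up ℤ) q)
  exact r'.injective

/-- The evaluation of an injective resolution of a complex. -/
noncomputable def evalRes [EnoughInjectives A] {K : CochainComplex A ℤ} (I : InjectiveResolution K)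
    (q : ℤ) : InjectiveResolution (K.X q) where
  cocomplex := ((HomologicalComplex.eval A (ComplexShape.up ℤ) q).mapHomologicalComplex
    (ComplexShape.up ℕ)).obj I.cocomplex
  injective m := injective_X (I.cocomplex.X m) q
  ι := (singleMapHomologicalComplex (HomologicalComplex.eval A (ComplexShape.up ℤ) q)
      (ComplexShape.up ℕ) 0).inv.app K ≫
    ((HomologicalComplex.eval A (ComplexShape.up ℤ) q).mapHomologicalComplex (ComplexShape.up ℕ)).map I.ι
  quasiIso := quasiIso_comp (hφ := @quasiIso_of_isIso _ _ _ _ _ _ _ _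
      ((singleMapHomologicalComplex (HomologicalComplex.eval A (ComplexShape.up ℤ) q)
        (ComplexShape.up ℕ) 0).app K).isIso_inv _ _)
    (hφ' := quasiIso_map_of_preservesHomology I.ι (HomologicalComplex.eval A (ComplexShape.up ℤ) q)) _ _

/-- The augmentation of a resolution of a complex. -/
noncomputable def augI [EnoughInjectives A] {K : CochainComplex A ℤ} (I : InjectiveResolution K) :
    K ⟶ I.cocomplex.X 0 := I.ι.f 0

lemma evalRes_ι [EnoughInjectives A] {K : CochainComplex A ℤ} (I : InjectiveResolution K) (q : ℤ) :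
    (evalRes I q).ι.f 0 = (augI I).f q := by
  show ((singleMapHomologicalComplex (HomologicalComplex.eval A (ComplexShape.up ℤ) q)
      (ComplexShape.up ℕ) 0).inv.app K).f 0 ≫ (I.ι.f 0).f q = _
  rw [singleMapHomologicalComplex_inv_app_self]
  exact (congrArg (· ≫ (I.ι.f 0).f q) (Category.id_comp _)).trans (Category.id_comp _)

end Groth.Agent.H16Derived.CdShift
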