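import Groth.Agent.H16Derived.CdShift.DualRes
import Groth.Agent.H16Derived.Res.FinCD

/-!
# The objects with `RⁱF = 0` for `i ≠ n`
-/

set_option autoImplicit false
set_option linter.style.haveILetI false

universe v v' u u'

open CategoryTheory CategoryTheory.Limits HomologicalComplex Opposite

namespace Groth.Agent.H16Derived.CdShift

variable {A : Type u} [Category.{v} A] [Abelian A] [EnoughInjectives A]
  {B : Type u'} [Category.{v'} B] [Abelian B] (F : A ⥤ B) [F.Additive] [PreservesFiniteLimits F]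

/-- The objects with `RⁱF = 0` for `i ≠ n`. -/
def IsP (n : ℕ) (X : A) : Prop := ∀ i : ℕ, i ≠ n → IsZero ((F.rightDerived i).obj X)

lemma isZero_X₂ {S : ShortComplex A} (hS : S.ShortExact) (i : ℕ)
    (h₁ : IsZero ((F.rightDerived i).obj S.X₁)) (h₃ : IsZero ((F.rightDerived i).obj S.X₃)) :
    IsZero ((F.rightDerived i).obj S.X₂) := by
  obtain ⟨T, hT, e₁, e₂, e₃, -⟩ := AcyclicLES.exists_les F S hS
  exact ((hT.homology_exact₂ (i : ℤ)).isZero_X₂ ((h₁.of_iso (e₁ i).some.symm).eq_of_src _ _)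
    ((h₃.of_iso (e₃ i).some.symm).eq_of_tgt _ _)).of_iso (e₂ i).some

lemma isZero_X₁_zero {S : ShortComplex A} (hS : S.ShortExact)
    (h₂ : IsZero ((F.rightDerived 0).obj S.X₂)) : IsZero ((F.rightDerived 0).obj S.X₁) := by
  haveI := hS.mono_f
  have h : IsZero (F.obj S.X₂) := h₂.of_iso ((F.rightDerivedZeroIsoSelf).app S.X₂).symm
  refine IsZero.of_iso ?_ ((F.rightDerivedZeroIsoSelf).app S.X₁)
  exact IsZero.of_mono (F.map S.f) h

lemma isZero_X₁_succ {S : ShortComplex A} (hS : S.ShortExact) (i : ℕ)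
    (h₃ : IsZero ((F.rightDerived i).obj S.X₃)) (h₂ : IsZero ((F.rightDerived (i + 1)).obj S.X₂)) :
    IsZero ((F.rightDerived (i + 1)).obj S.X₁) := by
  obtain ⟨T, hT, e₁, e₂, e₃, -⟩ := AcyclicLES.exists_les F S hS
  exact ((hT.homology_exact₁ (i : ℤ) ((i + 1 : ℕ) : ℤ) (by simp)).isZero_X₂
    ((h₃.of_iso (e₃ i).some.symm).eq_of_src _ _)
    ((h₂.of_iso (e₂ (i + 1)).some.symm).eq_of_tgt _ _)).of_iso (e₁ (i + 1)).some

omit [PreservesFiniteLimits F] in
lemma IsP.of_iso {n : ℕ} {X Y : A} (e : X ≅ Y) (h : IsP F n X) : IsP F n Y :=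
  fun i hi => (h i hi).of_iso ((F.rightDerived i).mapIso e.symm)

lemma isP_unop_biprod (n : ℕ) (X Y : Aᵒᵖ) (hX : IsP F n X.unop) (hY : IsP F n Y.unop) :
    IsP F n (X ⊞ Y).unop := fun i hi =>
  isZero_X₂ F (ShortComplex.Splitting.ofHasBinaryBiproduct X Y).shortExact.unop i (hY i hi) (hX i hi)

variable {n : ℕ} (hdim : ∀ (X : A) (i : ℕ), n < i → IsZero ((F.rightDerived i).obj X))

include hdim in
lemma isP_top (K : CochainComplex Aᵒᵖ ℕ) (hex : ∀ i : ℕ, 1 ≤ i → i ≤ n → K.ExactAt i)
    (hz : ∀ i : ℕ, n < i → IsZero (K.X i)) (hP : ∀ i : ℕ, i < n → IsP F n (K.X i).unop) :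
    IsP F n (K.X n).unop := by
  have e : K.X n ≅ K.cycles n :=
    (@asIso _ _ _ _ (K.iCycles n)
      (K.isIso_iCycles n (n + 1) (by simp) ((hz _ (by omega)).eq_of_tgt _ _))).symm
  refine IsP.of_iso F e.unop ?_
  have key : ∀ j, j ≤ n → ∀ i, i < j → IsZero ((F.rightDerived i).obj (K.cycles j).unop) := by
    intro j
    induction j with
    | zero => intro _ i hi; omega
    | succ j ih =>
      intro hj i hi
      have hepi : Epi (K.toCycles j (j + 1)) := by
        have h := (K.exactAt_iff_isZero_homology _).1 (hex (j + 1) (by omega) hj)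
        exact Abelian.epi_of_cokernel_π_eq_zero _ (IsZero.eq_of_tgt (h.of_iso
          (IsColimit.coconePointUniqueUpToIso (K.homologyIsCokernel j (j + 1) (by simp))
            (colimit.isColimit _)).symm) _ _)
      let S : ShortComplex Aᵒᵖ := ShortComplex.mk (K.iCycles j) (K.toCycles j (j + 1)) (by
        rw [← cancel_mono (K.iCycles (j + 1)), Category.assoc, toCycles_i, iCycles_d, zero_comp])
      have hS : S.ShortExact := by
        refine { exact := ?_, epi_g := hepi }
        rw [ShortComplex.exact_iff_exact_up_to_refinements]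
        intro W x hx
        refine ⟨W, 𝟙 W, inferInstance, K.liftCycles x (j + 1) (by simp) ?_,
          (Category.id_comp x).trans (K.liftCycles_i x _ _ _).symm⟩
        have hx' : x ≫ K.toCycles j (j + 1) = 0 := hx
        rw [← K.toCycles_i j (j + 1), reassoc_of% hx', zero_comp]
      cases i with
      | zero => exact isZero_X₁_zero F hS.unop (hP j (by omega) 0 (by omega))
      | succ i =>
        exact isZero_X₁_succ F hS.unop i (ih (by omega) i (by omega)) (hP j (by omega) (i + 1) (by omega))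
  intro i hi
  rcases Nat.lt_or_ge i n with h | h
  · exact key n le_rfl i h
  · exact hdim _ i (by omega)

include hdim in
/-- Resolutions by complexes of objects with `RⁱF = 0` for `i ≠ n`. -/
theorem exists_isP_res (hP : ∀ X : A, ∃ (Y : A) (p : Y ⟶ X), Epi p ∧ IsP F n Y)
    (X : CochainComplex A ℤ) :
    ∃ (M : CochainComplex A ℤ) (f : M ⟶ X), QuasiIso f ∧ ∀ p, IsP F n (M.X p) := by
  rcases Nat.eq_zero_or_pos n with rfl | hn
  · exact ⟨X, 𝟙 X, inferInstance, fun p i hi => hdim _ i (by omega)⟩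
  refine exists_quasiIso_to (IsP F n) (fun Y => ?_) (fun X Y => isP_unop_biprod F n X Y)
    (fun e h => IsP.of_iso F e h) n hn (fun K hex hz _ hK => isP_top F hdim K hex hz hK) X
  obtain ⟨Z, p, hp, hZ⟩ := hP Y
  exact ⟨Z, p, hZ, hp⟩

end Groth.Agent.H16Derived.CdShift
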