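import Groth.Agent.H16Derived.CdShift.MapTot
import Groth.Agent.H16Derived.CdShift.InjRes
import Groth.Agent.H16Derived.CdShift.PRes
import Mathlib.CategoryTheory.Abelian.RightDerived

/-!
# The comparison of `F` on a resolution with the shift of `RⁿF`
-/

set_option autoImplicit false
set_option linter.style.haveILetI false

universe v v' u u'

open CategoryTheory CategoryTheory.Limits CategoryTheory.Pretriangulated HomologicalComplex

namespace Groth.Agent.H16Derived.CdShift

variable {A : Type u} [Category.{v} A] [Abelian A] [EnoughInjectives A]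
  {B : Type u'} [Category.{v'} B] [Abelian B]

/-- The chosen injective resolution of a complex, as a sequence. -/
noncomputable abbrev Ic (K : CochainComplex A ℤ) : Sq A := (injectiveResolution K).cocomplex

/-- The augmentation. -/
noncomputable abbrev augC (K : CochainComplex A ℤ) : K ⟶ (Ic K).X 0 := augI (injectiveResolution K)

lemma augC_d (K : CochainComplex A ℤ) : augC K ≫ (Ic K).d 0 1 = 0 :=
  InjectiveResolution.ι_f_zero_comp_complex_d _

/-- A complex is the cycles in degree `0` of its resolution. -/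
noncomputable def augZ (K : CochainComplex A ℤ) : K ⟶ (Ic K).cycles 0 :=
  (Ic K).liftCycles (augC K) 1 (by simp) (augC_d K)

lemma isIso_augZ (K : CochainComplex A ℤ) : IsIso (augZ K) := by
  let I := injectiveResolution K
  let e := IsLimit.conePointUniqueUpToIso I.isLimitKernelFork ((Ic K).cyclesIsKernel 0 1 (by simp))
  have he : e.hom ≫ (Ic K).iCycles 0 = I.ι.f 0 :=
    I.isLimitKernelFork.conePointUniqueUpToIso_hom_comp ((Ic K).cyclesIsKernel 0 1 (by simp))
      WalkingParallelPair.zero
  have : augZ K = e.hom := by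
    rw [← cancel_mono ((Ic K).iCycles 0)]
    exact ((Ic K).liftCycles_i _ _ _ _).trans he.symm
  rw [this]
  exact e.isIso_hom

/-- A chosen lift of a map of complexes to the resolutions. -/
noncomputable def Icmap {K L : CochainComplex A ℤ} (f : K ⟶ L) : Ic K ⟶ Ic L :=
  InjectiveResolution.desc f (injectiveResolution L) (injectiveResolution K)

lemma Icmap_comm {K L : CochainComplex A ℤ} (f : K ⟶ L) :
    augC K ≫ (Icmap f).f 0 = f ≫ augC L :=
  InjectiveResolution.desc_commutes_zero f (injectiveResolution L) (injectiveResolution K)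

lemma augZ_naturality {K L : CochainComplex A ℤ} (f : K ⟶ L) :
    augZ K ≫ HomologicalComplex.cyclesMap (Icmap f) 0 = f ≫ augZ L := by
  rw [← cancel_mono ((Ic L).iCycles 0), Category.assoc, Category.assoc,
    HomologicalComplex.cyclesMap_i, augZ, augZ, HomologicalComplex.liftCycles_i_assoc,
    HomologicalComplex.liftCycles_i, Icmap_comm]

variable (n : ℕ)

/-- The resolution of a complex. -/
noncomputable abbrev Tc (K : CochainComplex A ℤ) : CochainComplex A ℤ := (Tot A n 0).obj (Ic K)

/-- The resolution map. -/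
noncomputable def jc (K : CochainComplex A ℤ) : K ⟶ Tc n K := augZ K ≫ (iota n 0).app (Ic K)

lemma jc_naturality {K L : CochainComplex A ℤ} (f : K ⟶ L) :
    jc n K ≫ (Tot A n 0).map (Icmap f) = f ≫ jc n L := by
  refine (Category.assoc _ _ _).trans ((congrArg (augZ K ≫ ·) ((iota n 0).naturality (Icmap f)).symm).trans ?_)
  exact ((Category.assoc _ _ _).symm.trans (congrArg (· ≫ _) (augZ_naturality f))).trans
    (Category.assoc _ _ _)

lemma quasiIso_jc (K : CochainComplex A ℤ) : QuasiIso (jc n K) := by
  haveI := isIso_augZ K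
  haveI : QuasiIso ((iota n 0).app (Ic K)) := quasiIso_iota n 0 n (zero_add n) (Ic K) fun i hi _ => by
    obtain ⟨j, rfl⟩ : ∃ j, i = j + 1 := ⟨i - 1, by omega⟩
    exact (injectiveResolution K).cocomplex_exactAt_succ j
  exact quasiIso_comp (hφ := quasiIso_of_isIso (augZ K)) (hφ' := ‹_›) _ _

variable (F : A ⥤ B) [F.Additive]

/-- The components of the cohomology of `F` on the resolution. -/
noncomputable def eq' (K : CochainComplex A ℤ) (i : ℕ) (q : ℤ) :
    (((MS F).obj (Ic K)).homology i).X q ≅ (F.rightDerived i).obj (K.X q) :=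
  ((((MS F).obj (Ic K)).sc i).mapHomologyIso (HomologicalComplex.eval B (ComplexShape.up ℤ) q)).symm ≪≫
    ((evalRes (injectiveResolution K) q).isoRightDerivedObj F i).symm

/-- Evaluation at `q` and `q'` are related by the differential. -/
noncomputable def evD (q q' : ℤ) :
    HomologicalComplex.eval A (ComplexShape.up ℤ) q ⟶ HomologicalComplex.eval A (ComplexShape.up ℤ) q' where
  app K := K.d q q'
  naturality _ _ f := f.comm q q'

/-- Evaluation at `q` and `q'` are related by the differential, in `B`. -/
noncomputable def evDB (q q' : ℤ) :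
    HomologicalComplex.eval B (ComplexShape.up ℤ) q ⟶ HomologicalComplex.eval B (ComplexShape.up ℤ) q' where
  app K := K.d q q'
  naturality _ _ f := f.comm q q'

lemma evalRes_comm_d (K : CochainComplex A ℤ) (q q' : ℤ) :
    (evalRes (injectiveResolution K) q).ι.f 0 ≫
        ((NatTrans.mapHomologicalComplex (evD q q') (ComplexShape.up ℕ)).app (Ic K)).f 0 =
      K.d q q' ≫ (evalRes (injectiveResolution K) q').ι.f 0 := by
  rw [evalRes_ι, evalRes_ι]
  exact (augC K).comm q q'

lemma evalRes_comm_map {K L : CochainComplex A ℤ} (f : K ⟶ L) (q : ℤ) :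
    (evalRes (injectiveResolution K) q).ι.f 0 ≫
        (((HomologicalComplex.eval A (ComplexShape.up ℤ) q).mapHomologicalComplex
          (ComplexShape.up ℕ)).map (Icmap f)).f 0 =
      f.f q ≫ (evalRes (injectiveResolution L) q).ι.f 0 := by
  rw [evalRes_ι, evalRes_ι]
  exact congrArg (fun t => HomologicalComplex.Hom.f t q) (Icmap_comm f)

lemma eq'_d (K : CochainComplex A ℤ) (i : ℕ) (q q' : ℤ) :
    (((MS F).obj (Ic K)).homology i).d q q' ≫ (eq' F K i q').hom =
      (eq' F K i q).hom ≫ (F.rightDerived i).map (K.d q q') := by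
  have h := (evalRes (injectiveResolution K) q).isoRightDerivedObj_inv_naturality (K.d q q')
    (evalRes (injectiveResolution K) q')
    ((NatTrans.mapHomologicalComplex (evD q q') (ComplexShape.up ℕ)).app (Ic K))
    (evalRes_comm_d K q q') F i
  have h' := NatTrans.app_homology (evDB (B := B) q q') (((MS F).obj (Ic K)).sc i)
  refine (congrArg (· ≫ (eq' F K i q').hom) h').trans ?_
  refine Eq.trans ?_ (Category.assoc _ _ _).symm
  refine (Category.assoc _ _ _).trans (congrArg (_ ≫ ·) ?_)
  refine (Category.assoc _ _ _).trans ((congrArg (_ ≫ ·) (Iso.hom_inv_id_assoc _ _)).trans ?_)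
  exact h.symm

/-- The cohomology of `F` on the resolution is `RⁱF`. -/
noncomputable def eH (K : CochainComplex A ℤ) (i : ℕ) [(F.rightDerived i).Additive] :
    ((MS F).obj (Ic K)).homology i ≅ (MC (F.rightDerived i)).obj K :=
  HomologicalComplex.Hom.isoOfComponents (fun q => eq' F K i q) (fun q q' _ => (eq'_d F K i q q').symm)

lemma eH_naturality {K L : CochainComplex A ℤ} (f : K ⟶ L) (i : ℕ) [(F.rightDerived i).Additive] :
    HomologicalComplex.homologyMap ((MS F).map (Icmap f)) i ≫ (eH F L i).hom =
      (eH F K i).hom ≫ (MC (F.rightDerived i)).map f := by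
  refine HomologicalComplex.hom_ext _ _ fun q => ?_
  have h := (evalRes (injectiveResolution K) q).isoRightDerivedObj_inv_naturality (f.f q)
    (evalRes (injectiveResolution L) q)
    (((HomologicalComplex.eval A (ComplexShape.up ℤ) q).mapHomologicalComplex
      (ComplexShape.up ℕ)).map (Icmap f)) (evalRes_comm_map f q) F i
  have h' := ShortComplex.mapHomologyIso_inv_naturality
    (φ := (HomologicalComplex.shortComplexFunctor (CochainComplex B ℤ) (ComplexShape.up ℕ) i).map
      ((MS F).map (Icmap f))) (HomologicalComplex.eval B (ComplexShape.up ℤ) q)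
  refine (Category.assoc _ _ _).symm.trans ((congrArg (· ≫ _) h').trans ?_)
  refine Eq.trans ?_ (Category.assoc _ _ _).symm
  exact (Category.assoc _ _ _).trans (congrArg (_ ≫ ·) h.symm)

/-- The comparison. -/
noncomputable def cmpC [(F.rightDerived n).Additive] (K : CochainComplex A ℤ) :
    (MC F).obj (Tc n K) ⟶
      (CategoryTheory.shiftFunctor (CochainComplex B ℤ) (-(n : ℤ))).obj ((MC (F.rightDerived n)).obj K) :=
  (theta F n 0).app (Ic K) ≫ (qTot n 0 n (zero_add n)).app ((MS F).obj (Ic K)) ≫
    (SfunIso B n).hom.app (((MS F).obj (Ic K)).homology n) ≫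
    (CategoryTheory.shiftFunctor (CochainComplex B ℤ) (-(n : ℤ))).map (eH F K n).hom

lemma cmpC_naturality [(F.rightDerived n).Additive] {K L : CochainComplex A ℤ} (f : K ⟶ L) :
    (MC F).map ((Tot A n 0).map (Icmap f)) ≫ cmpC n F L = cmpC n F K ≫
      (CategoryTheory.shiftFunctor (CochainComplex B ℤ) (-(n : ℤ))).map ((MC (F.rightDerived n)).map f) := by
  have h₁ : (MC F).map ((Tot A n 0).map (Icmap f)) ≫ (theta F n 0).app (Ic L) =
      (theta F n 0).app (Ic K) ≫ (Tot B n 0).map ((MS F).map (Icmap f)) :=
    (theta F n 0).naturality (Icmap f)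
  have h₂ : (Tot B n 0).map ((MS F).map (Icmap f)) ≫ (qTot n 0 n (zero_add n)).app ((MS F).obj (Ic L)) =
      (qTot n 0 n (zero_add n)).app ((MS F).obj (Ic K)) ≫
        (Sfun B n).map (HomologicalComplex.homologyMap ((MS F).map (Icmap f)) n) :=
    (qTot n 0 n (zero_add n)).naturality ((MS F).map (Icmap f))
  have h₃ : (Sfun B n).map (HomologicalComplex.homologyMap ((MS F).map (Icmap f)) n) ≫
      (SfunIso B n).hom.app (((MS F).obj (Ic L)).homology n) =
      (SfunIso B n).hom.app (((MS F).obj (Ic K)).homology n) ≫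
        (CategoryTheory.shiftFunctor (CochainComplex B ℤ) (-(n : ℤ))).map
          (HomologicalComplex.homologyMap ((MS F).map (Icmap f)) n) :=
    (SfunIso B n).hom.naturality (HomologicalComplex.homologyMap ((MS F).map (Icmap f)) n)
  have h₄ := congrArg (CategoryTheory.shiftFunctor (CochainComplex B ℤ) (-(n : ℤ))).map
    (eH_naturality F f n)
  rw [Functor.map_comp, Functor.map_comp] at h₄
  simp only [cmpC, Category.assoc]
  rw [reassoc_of% h₁]
  refine congrArg ((theta F n 0).app (Ic K) ≫ ·) ?_
  refine (Category.assoc _ _ _).symm.trans ((congrArg (· ≫ _) h₂).trans ?_)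
  refine (Category.assoc _ _ _).trans (congrArg ((qTot n 0 n (zero_add n)).app ((MS F).obj (Ic K)) ≫ ·) ?_)
  refine (Category.assoc _ _ _).symm.trans ((congrArg (· ≫ _) h₃).trans ?_)
  exact (Category.assoc _ _ _).trans
    (congrArg ((SfunIso B n).hom.app (((MS F).obj (Ic K)).homology n) ≫ ·) h₄)

lemma quasiIso_cmpC [PreservesFiniteLimits F] [(F.rightDerived n).Additive] (K : CochainComplex A ℤ)
    (hK : ∀ q, IsP F n (K.X q)) : QuasiIso (cmpC n F K) := by
  haveI := isIso_theta F n 0 (Ic K)
  have hq : QuasiIso ((qTot n 0 n (zero_add n)).app ((MS F).obj (Ic K))) :=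
    quasiIso_qTot n _ fun i hi => by
      rw [HomologicalComplex.exactAt_iff_isZero_homology, IsZero.iff_id_eq_zero]
      exact HomologicalComplex.hom_ext _ _ fun q =>
        ((hK q i hi.ne).of_iso (eq' F K i q)).eq_of_src _ _
  exact quasiIso_comp (hφ := quasiIso_of_isIso _)
    (hφ' := quasiIso_comp (hφ := hq) (hφ' := @quasiIso_of_isIso _ _ _ _ _ _ _ _
      ((((SfunIso B n).app _) ≪≫ (CategoryTheory.shiftFunctor (CochainComplex B ℤ) (-(n : ℤ))).mapIso
        (eH F K n)).isIso_hom) _ _) _ _) _ _

/-- Terms of totalizations. -/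
lemma isAcyclic_tot_X [PreservesFiniteLimits F] (D : Sq A) :
    ∀ (m p : ℕ), (∀ i, p ≤ i → i < p + m → ∀ r, AcyclicLES.IsAcyclic F ((D.X i).X r)) →
      (∀ r, AcyclicLES.IsAcyclic F ((D.cycles (p + m)).X r)) →
      ∀ r, AcyclicLES.IsAcyclic F (((Tot A m p).obj D).X r) := by
  intro m
  induction m with
  | zero => intro p _ h r; exact h r
  | succ m ih =>
    intro p hi hc r
    have h' := ih (p + 1) (fun i h₁ h₂ => hi i (by omega) (by omega))
      (fun r => by rw [show p + 1 + m = p + (m + 1) by omega]; exact hc r)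
    intro i hi'
    exact ((AcyclicLES.isAcyclic_X₂ F
      (ShortComplex.Splitting.ofHasBinaryBiproduct ((D.X p).X (r + -1 + 1))
        (((Tot A m (p + 1)).obj D).X (r + -1))).shortExact (hi p le_rfl (by omega) _) (h' _)) i hi').of_iso
      ((F.rightDerived i).mapIso (homotopyCofiber.XIsoBiprod ((psi m p).app D) (r + -1) (r + -1 + 1) rfl))

lemma isAcyclic_Tc [PreservesFiniteLimits F]
    (hdim : ∀ (X : A) (i : ℕ), n < i → IsZero ((F.rightDerived i).obj X)) (K : CochainComplex A ℤ)
    (r : ℤ) : AcyclicLES.IsAcyclic F ((Tc n K).X r) := by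
  refine isAcyclic_tot_X F (Ic K) n 0 (fun i _ _ r => ?_) (fun r => ?_) r
  · haveI := injective_X ((Ic K).X i) r
    exact AcyclicLES.isAcyclic_of_injective F _
  intro i hi
  rw [zero_add]
  refine FinCD.isZero_of_chain F (fun j => ((Ic K).cycles j).X r) (fun j => ((Ic K).X j).X r) n
    (fun j _ => ?_) (fun j _ => ?_) i hi (hdim _ _ (by omega))
  · let S : ShortComplex (CochainComplex A ℤ) :=
      ShortComplex.mk ((Ic K).iCycles j) ((Ic K).toCycles j (j + 1)) (by
        rw [← cancel_mono ((Ic K).iCycles (j + 1)), Category.assoc, toCycles_i, iCycles_d, zero_comp])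
    have hepi : Epi ((Ic K).toCycles j (j + 1)) :=
      epi_toCycles_of_exactAt (Ic K) j ((injectiveResolution K).cocomplex_exactAt_succ j)
    have hS : S.ShortExact := by
      refine { exact := ?_, epi_g := hepi }
      rw [ShortComplex.exact_iff_exact_up_to_refinements]
      intro W x hx
      refine ⟨W, 𝟙 W, inferInstance, (Ic K).liftCycles x (j + 1) (by simp) ?_,
        (Category.id_comp x).trans ((Ic K).liftCycles_i x _ _ _).symm⟩
      have hx' : x ≫ (Ic K).toCycles j (j + 1) = 0 := hx
      rw [← (Ic K).toCycles_i j (j + 1), reassoc_of% hx', zero_comp]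
    exact ⟨_, _, _, hS.map_of_exact (HomologicalComplex.eval A (ComplexShape.up ℤ) r)⟩
  · haveI := injective_X ((Ic K).X j) r
    exact AcyclicLES.isAcyclic_of_injective F _

end Groth.Agent.H16Derived.CdShift
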