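import Groth.Agent.H16Derived.Res.Unbounded
import Mathlib.Algebra.Homology.CochainComplexOpposite
import Mathlib.CategoryTheory.Abelian.Opposite

/-!
# Resolutions of unbounded complexes from the left
-/

set_option autoImplicit false
set_option linter.style.haveILetI false

universe v u

open CategoryTheory CategoryTheory.Limits Opposite

namespace Groth.Agent.H16Derived.CdShift

variable {A : Type u} [Category.{v} A] [Abelian A]

lemma quasiIso_op_iff {K L : CochainComplex A ℤ} (f : K ⟶ L) :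
    QuasiIso ((CochainComplex.opEquivalence A).functor.map f.op) ↔ QuasiIso f := by
  have key : ∀ n m : ℤ, n + m = 0 →
      (QuasiIsoAt ((CochainComplex.opEquivalence A).functor.map f.op) m ↔ QuasiIsoAt f n) := by
    intro n m hnm
    obtain rfl : n = -m := by omega
    rw [quasiIsoAt_iff' _ (m - 1) m (m + 1) (by simp) (by simp),
      quasiIsoAt_iff' f (-(m + 1)) (-m) (-(m - 1)) (by simp; omega) (by simp; omega)]
    exact ShortComplex.quasiIso_opMap_iff
      ((HomologicalComplex.shortComplexFunctor' A (ComplexShape.up ℤ) (-(m + 1)) (-m) (-(m - 1))).map f)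
  rw [quasiIso_iff, quasiIso_iff]
  exact ⟨fun h i => (key i (-i) (by omega)).1 (h _), fun h i => (key (-i) i (by omega)).2 (h _)⟩

/-- Every complex receives a quasi-isomorphism from a complex with terms in `P`. -/
theorem exists_quasiIso_to (P : A → Prop) (hepi : ∀ X : A, ∃ (Y : A) (p : Y ⟶ X), P Y ∧ Epi p)
    (hbi : ∀ X Y : Aᵒᵖ, P X.unop → P Y.unop → P (X ⊞ Y).unop)
    (hiso : ∀ {X Y : A}, (X ≅ Y) → P X → P Y) (n : ℕ) (hn : 1 ≤ n)
    (htop : ∀ K : CochainComplex Aᵒᵖ ℕ, (∀ i : ℕ, 1 ≤ i → i ≤ n → K.ExactAt i) →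
      (∀ i : ℕ, n < i → IsZero (K.X i)) → Epi (K.d (n - 1) n) → (∀ i : ℕ, i < n → P (K.X i).unop) →
      P (K.X n).unop)
    (X : CochainComplex A ℤ) :
    ∃ (M : CochainComplex A ℤ) (f : M ⟶ X), QuasiIso f ∧ ∀ p, P (M.X p) := by
  let E := CochainComplex.opEquivalence A
  obtain ⟨L, f, hf, hL⟩ := Res.exists_quasiIso (fun Y : Aᵒᵖ => P Y.unop)
    (fun Y => by
      obtain ⟨Z, p, hZ, hp⟩ := hepi Y.unop
      exact ⟨op Z, p.op, hZ, inferInstanceAs (Mono p.op)⟩)
    hbi (fun e h => hiso e.unop.symm h) n htop hn (E.functor.obj (op X))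
  let M := (E.inverse.obj L).unop
  let e : E.functor.obj (op M) ≅ L := E.counitIso.app L
  let g := E.functor.preimage (X := op X) (Y := op M) (f ≫ e.inv)
  refine ⟨M, g.unop, ?_, fun p => ?_⟩
  · rw [← quasiIso_op_iff]
    show QuasiIso (E.functor.map g)
    rw [Functor.map_preimage]
    haveI := hf
    infer_instance
  · have h := hL (-p)
    have e' : (M.X p) ≅ (L.X (-p)).unop :=
      (M.XIsoOfEq (neg_neg p).symm) ≪≫ ((HomologicalComplex.eval Aᵒᵖ (ComplexShape.up ℤ) (-p)).mapIso e).unop.symm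
    exact hiso e'.symm h

end Groth.Agent.H16Derived.CdShift
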