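import Mathlib.CategoryTheory.Functor.Derived.RightDerived
import Mathlib.CategoryTheory.Functor.Derived.LeftDerived

/-!
# Derived functors from functors which are exact on a class of resolving objects
-/

set_option autoImplicit false
set_option linter.style.haveILetI false

universe v₁ v₂ v₃ u₁ u₂ u₃

open CategoryTheory CategoryTheory.Limits

namespace Groth.Agent.H16Derived.CdShift.Ext

variable {C : Type u₁} [Category.{v₁} C] {D : Type u₂} [Category.{v₂} D]
  {H : Type u₃} [Category.{v₃} H] (L : C ⥤ D) (W : MorphismProperty C) [L.IsLocalization W]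
  (P : C → Prop)

section left

variable (hres : ∀ X : C, ∃ (M : C) (s : M ⟶ X), W s ∧ P M)
  (hfrac : ∀ {M M' : C} (f : L.obj M ⟶ L.obj M'), P M → P M' →
    ∃ (N : C) (s : N ⟶ M) (g : N ⟶ M'), W s ∧ P N ∧ L.map s ≫ f = L.map g)

include W hres in
lemma exists_iso (X : D) : ∃ (M : C) (_ : L.obj M ≅ X), P M := by
  haveI := Localization.essSurj L W
  obtain ⟨M, s, hs, hM⟩ := hres (L.objPreimage X)
  haveI := Localization.inverts L W s hs
  exact ⟨M, asIso (L.map s) ≪≫ L.objObjPreimageIso X, hM⟩

include W hres in
lemma hom_ext_left {F : C ⥤ H} {F₀ G : D ⥤ H} (α : L ⋙ F₀ ⟶ F) (hα : ∀ M, P M → IsIso (α.app M))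
    {γ γ' : G ⟶ F₀} (h : ∀ M, γ.app (L.obj M) ≫ α.app M = γ'.app (L.obj M) ≫ α.app M) : γ = γ' := by
  ext X
  obtain ⟨M, e, hM⟩ := exists_iso L W P hres X
  haveI := hα M hM
  rw [← cancel_epi (G.map e.hom), γ.naturality, γ'.naturality, (cancel_mono (α.app M)).1 (h M)]

include hres hfrac in
/-- A functor which computes `F` on a class of resolving objects is the left derived functor. -/
theorem isLeftDerivedFunctor {F : C ⥤ H} (F₀ : D ⥤ H) (α : L ⋙ F₀ ⟶ F)
    (hα : ∀ M, P M → IsIso (α.app M)) : F₀.IsLeftDerivedFunctor α W := by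
  haveI := fun M (hM : P M) => hα M hM
  refine ⟨⟨⟨IsTerminal.ofUniqueHom (fun E => ?_) (fun E m => ?_)⟩⟩⟩
  · -- the comparison
    have hD := exists_iso L W P hres
    choose K e hK using hD
    let η : ∀ M, P M → (E.left.obj (L.obj M) ⟶ F₀.obj (L.obj M)) := fun M hM =>
      E.hom.app M ≫ @inv _ _ _ _ (α.app M) (hα M hM)
    have hη : ∀ {M M' : C} (f : L.obj M ⟶ L.obj M') (hM : P M) (hM' : P M'),
        E.left.map f ≫ η M' hM' = η M hM ≫ F₀.map f := by
      have step : ∀ {M M' : C} (g : M ⟶ M') (hM : P M) (hM' : P M'),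
          E.left.map (L.map g) ≫ η M' hM' = η M hM ≫ F₀.map (L.map g) := by
        intro M M' g hM hM'
        haveI := hα M hM
        haveI := hα M' hM'
        have h₁ : F₀.map (L.map g) ≫ α.app M' = α.app M ≫ F.map g := α.naturality g
        have h₂ : E.left.map (L.map g) ≫ E.hom.app M' = E.hom.app M ≫ F.map g := E.hom.naturality g
        simp only [η]
        rw [← cancel_mono (α.app M')]
        simp only [Category.assoc, IsIso.inv_hom_id, Category.comp_id, h₁, IsIso.inv_hom_id_assoc]
        exact h₂
      intro M M' f hM hM'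
      obtain ⟨N, s, g, hs, hN, e⟩ := hfrac f hM hM'
      haveI := Localization.inverts L W s hs
      rw [← cancel_epi (E.left.map (L.map s)), ← E.left.map_comp_assoc, e, step g hN hM',
        ← Category.assoc (E.left.map (L.map s)), step s hN hM]
      exact ((congrArg (η N hN ≫ ·) ((congrArg F₀.map e.symm).trans (F₀.map_comp _ _))).trans
        (Category.assoc _ _ _).symm)
    exact CostructuredArrow.homMk
      { app := fun X => E.left.map (e X).inv ≫ η (K X) (hK X) ≫ F₀.map (e X).hom
        naturality := fun X Y f => by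
          have h := hη ((e X).hom ≫ f ≫ (e Y).inv) (hK X) (hK Y)
          simp only [Functor.map_comp, Category.assoc] at h
          rw [← cancel_epi (E.left.map (e X).hom), reassoc_of% h]
          simp only [← Functor.map_comp_assoc, Category.assoc, Iso.hom_inv_id, Functor.map_id, Category.id_comp]
          refine congrArg (η (K X) (hK X) ≫ ·) ?_
          show _ = F₀.map (e X).hom ≫ F₀.map f
          refine Eq.trans ?_ (F₀.map_comp _ _)
          exact (F₀.map_comp _ _).symm.trans (congrArg F₀.map (by simp)) }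
      (by
        ext X
        obtain ⟨M, s, hs, hM⟩ := hres X
        haveI := Localization.inverts L W s hs
        haveI := hα M hM
        show (E.left.map (e (L.obj X)).inv ≫ η (K (L.obj X)) (hK _) ≫ F₀.map (e (L.obj X)).hom) ≫ α.app X =
          E.hom.app X
        have h := hη (L.map s ≫ (e (L.obj X)).inv) hM (hK _)
        rw [Functor.map_comp, Category.assoc] at h
        rw [← cancel_epi (E.left.map (L.map s)), Category.assoc, Category.assoc, reassoc_of% h,
          ← F₀.map_comp_assoc]
        simp only [Category.assoc, Iso.inv_hom_id, Category.comp_id]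
        have h₁ : F₀.map (L.map s) ≫ α.app X = α.app M ≫ F.map s := α.naturality s
        have h₂ : E.left.map (L.map s) ≫ E.hom.app X = E.hom.app M ≫ F.map s := E.hom.naturality s
        simp only [η]
        rw [h₁, Category.assoc, IsIso.inv_hom_id_assoc, h₂])
  · -- uniqueness
    have key : ∀ m₁ m₂ : E ⟶ Functor.RightExtension.mk F₀ α, m₁ = m₂ := fun m₁ m₂ =>
      CostructuredArrow.hom_ext _ _ (hom_ext_left L W P hres α hα fun M =>
        (NatTrans.congr_app (CostructuredArrow.w m₁) M).trans
          (NatTrans.congr_app (CostructuredArrow.w m₂) M).symm)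
    exact key m _

end left

section right

variable (hres : ∀ X : C, ∃ (M : C) (s : X ⟶ M), W s ∧ P M)
  (hfrac : ∀ {M M' : C} (f : L.obj M ⟶ L.obj M'), P M → P M' →
    ∃ (N : C) (g : M ⟶ N) (s : M' ⟶ N), W s ∧ P N ∧ f ≫ L.map s = L.map g)

include W hres in
lemma exists_iso' (X : D) : ∃ (M : C) (_ : X ≅ L.obj M), P M := by
  haveI := Localization.essSurj L W
  obtain ⟨M, s, hs, hM⟩ := hres (L.objPreimage X)
  haveI := Localization.inverts L W s hs
  exact ⟨M, (L.objObjPreimageIso X).symm ≪≫ asIso (L.map s), hM⟩

include W hres in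
lemma hom_ext_right {F : C ⥤ H} {F₀ G : D ⥤ H} (α : F ⟶ L ⋙ F₀) (hα : ∀ M, P M → IsIso (α.app M))
    {γ γ' : F₀ ⟶ G} (h : ∀ M, α.app M ≫ γ.app (L.obj M) = α.app M ≫ γ'.app (L.obj M)) : γ = γ' := by
  ext X
  obtain ⟨M, e, hM⟩ := exists_iso' L W P hres X
  haveI := hα M hM
  rw [← cancel_mono (G.map e.hom), ← γ.naturality, ← γ'.naturality, (cancel_epi (α.app M)).1 (h M)]

include hres hfrac in
/-- A functor which computes `F` on a class of resolving objects is the right derived functor. -/
theorem isRightDerivedFunctor {F : C ⥤ H} (F₀ : D ⥤ H) (α : F ⟶ L ⋙ F₀)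
    (hα : ∀ M, P M → IsIso (α.app M)) : F₀.IsRightDerivedFunctor α W := by
  refine ⟨⟨⟨IsInitial.ofUniqueHom (fun E => ?_) (fun E m => ?_)⟩⟩⟩
  · -- the comparison
    have hD := exists_iso' L W P hres
    choose K e hK using hD
    let η : ∀ M, P M → (F₀.obj (L.obj M) ⟶ E.right.obj (L.obj M)) := fun M hM =>
      @inv _ _ _ _ (α.app M) (hα M hM) ≫ E.hom.app M
    have hη : ∀ {M M' : C} (f : L.obj M ⟶ L.obj M') (hM : P M) (hM' : P M'),
        η M hM ≫ E.right.map f = F₀.map f ≫ η M' hM' := by
      have step : ∀ {M M' : C} (g : M ⟶ M') (hM : P M) (hM' : P M'),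
          η M hM ≫ E.right.map (L.map g) = F₀.map (L.map g) ≫ η M' hM' := by
        intro M M' g hM hM'
        haveI := hα M hM
        haveI := hα M' hM'
        have h₁ : F.map g ≫ α.app M' = α.app M ≫ F₀.map (L.map g) := α.naturality g
        have h₂ : F.map g ≫ E.hom.app M' = E.hom.app M ≫ E.right.map (L.map g) := E.hom.naturality g
        simp only [η]
        rw [← cancel_epi (α.app M), ← Category.assoc _ (F₀.map (L.map g)), ← h₁]
        simp only [Category.assoc, IsIso.hom_inv_id_assoc]
        exact h₂.symm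
      intro M M' f hM hM'
      obtain ⟨N, g, s, hs, hN, e⟩ := hfrac f hM hM'
      haveI := Localization.inverts L W s hs
      rw [← cancel_mono (E.right.map (L.map s)), Category.assoc, ← E.right.map_comp, e, step g hM hN,
        Category.assoc, step s hM' hN]
      exact (congrArg (· ≫ η N hN) ((congrArg F₀.map e.symm).trans (F₀.map_comp _ _))).trans
        (Category.assoc _ _ _)
    let γ : F₀ ⟶ E.right :=
      { app := fun X => F₀.map (e X).hom ≫ η (K X) (hK X) ≫ E.right.map (e X).inv
        naturality := fun X Y f => by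
          have h := hη ((e X).inv ≫ f ≫ (e Y).hom) (hK X) (hK Y)
          simp only [Functor.map_comp, Category.assoc] at h
          rw [← cancel_epi (F₀.map (e X).inv), ← reassoc_of% h]
          simp [← Functor.map_comp, ← Functor.map_comp_assoc] }
    exact StructuredArrow.homMk γ
      (by
        ext X
        obtain ⟨M, s, hs, hM⟩ := hres X
        haveI := Localization.inverts L W s hs
        haveI := hα M hM
        show α.app X ≫ γ.app (L.obj X) = E.hom.app X
        show α.app X ≫ F₀.map (e (L.obj X)).hom ≫ η (K (L.obj X)) (hK _) ≫ E.right.map (e (L.obj X)).inv =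
          E.hom.app X
        have h := hη ((e (L.obj X)).inv ≫ L.map s) (hK _) hM
        rw [Functor.map_comp] at h
        have h₁ : F.map s ≫ α.app M = α.app X ≫ F₀.map (L.map s) := α.naturality s
        have h₂ : F.map s ≫ E.hom.app M = E.hom.app X ≫ E.right.map (L.map s) := E.hom.naturality s
        rw [← cancel_mono (E.right.map (L.map s))]
        simp only [Category.assoc]
        rw [h, ← F₀.map_comp_assoc, Iso.hom_inv_id_assoc, ← Category.assoc, ← h₁]
        simp only [η, Category.assoc, IsIso.hom_inv_id_assoc]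
        exact h₂)
  · -- uniqueness
    have key : ∀ m₁ m₂ : Functor.LeftExtension.mk F₀ α ⟶ E, m₁ = m₂ := fun m₁ m₂ =>
      StructuredArrow.hom_ext _ _ (hom_ext_right L W P hres α hα fun M =>
        (NatTrans.congr_app (StructuredArrow.w m₁) M).trans
          (NatTrans.congr_app (StructuredArrow.w m₂) M).symm)
    exact key m _

end right

end Groth.Agent.H16Derived.CdShift.Ext
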