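import Groth.Agent.H16Derived.CdShift.Seq
import Mathlib.Algebra.Homology.DerivedCategory.Basic

/-!
# Additive functors commute with totalizations; iterated cocones of zero are shifts
-/

set_option autoImplicit false
set_option linter.style.haveILetI false

universe v v' u u'

open CategoryTheory CategoryTheory.Limits CategoryTheory.Pretriangulated HomologicalComplex
open Groth.Agent.H16Derived.Res
open scoped ZeroObject

namespace Groth.Agent.H16Derived.CdShift

variable {A : Type u} [Category.{v} A] [Abelian A] {B : Type u'} [Category.{v'} B] [Abelian B]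
  (F : A ⥤ B) [F.Additive]

/-- `F` on complexes. -/
noncomputable abbrev MC : CochainComplex A ℤ ⥤ CochainComplex B ℤ :=
  F.mapHomologicalComplex (ComplexShape.up ℤ)

/-- `F` on sequences of complexes. -/
noncomputable abbrev MS : Sq A ⥤ Sq B :=
  (MC F).mapHomologicalComplex (ComplexShape.up ℕ)

@[reassoc]
lemma mapCoconeIso_naturality {K L K' L' : CochainComplex A ℤ} (φ : K ⟶ L) (φ' : K' ⟶ L') (a : K ⟶ K')
    (b : L ⟶ L') (comm : φ ≫ b = a ≫ φ') :
    (MC F).map (coconeMap φ φ' a b comm) ≫ (mapCoconeIso F φ').hom =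
      (mapCoconeIso F φ).hom ≫ coconeMap ((MC F).map φ) ((MC F).map φ') ((MC F).map a) ((MC F).map b)
        (by rw [← Functor.map_comp, comm, Functor.map_comp]) := by
  refine HomologicalComplex.hom_ext _ _ fun p => mappingCocone_hom_ext _ ?_ ?_
  · refine (Category.assoc _ _ _).trans ((congrArg (_ ≫ ·) (mapCoconeIso_f_fst F φ' p)).trans ?_)
    refine Eq.trans ?_ (Category.assoc _ _ _).symm
    refine Eq.trans ?_ (congrArg (_ ≫ ·) (coconeMap_f_fst _ _ _ _ _ p)).symm
    refine ((F.map_comp _ _).symm.trans ((congrArg F.map (coconeMap_f_fst φ φ' a b comm p)).trans (F.map_comp _ _))).trans ?_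
    exact ((congrArg (· ≫ _) (mapCoconeIso_f_fst F φ p)).symm).trans (Category.assoc _ _ _)
  · refine (Category.assoc _ _ _).trans ((congrArg (_ ≫ ·) (mapCoconeIso_f_snd F φ' p)).trans ?_)
    refine Eq.trans ?_ (Category.assoc _ _ _).symm
    refine Eq.trans ?_ (congrArg (_ ≫ ·) (coconeMap_f_snd _ _ _ _ _ p (p + -1) rfl)).symm
    refine ((F.map_comp _ _).symm.trans ((congrArg F.map (coconeMap_f_snd φ φ' a b comm p (p + -1) rfl)).trans (F.map_comp _ _))).trans ?_
    exact ((congrArg (· ≫ _) (mapCoconeIso_f_snd F φ p)).symm).trans (Category.assoc _ _ _)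

@[reassoc]
lemma map_lift₀_mapCoconeIso {K L M : CochainComplex A ℤ} (φ : K ⟶ L) (f : M ⟶ K) (h : f ≫ φ = 0) :
    (MC F).map (lift₀ φ f h) ≫ (mapCoconeIso F φ).hom =
      lift₀ ((MC F).map φ) ((MC F).map f) (by rw [← Functor.map_comp, h, Functor.map_zero]) := by
  refine HomologicalComplex.hom_ext _ _ fun p => mappingCocone_hom_ext _ ?_ ?_
  · refine (Category.assoc _ _ _).trans ((congrArg (_ ≫ ·) (mapCoconeIso_f_fst F φ p)).trans ?_)
    refine ((F.map_comp _ _).symm.trans (congrArg F.map ?_)).trans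
      (congrArg (fun t => HomologicalComplex.Hom.f t p) (lift₀_fst ((MC F).map φ) ((MC F).map f) _)).symm
    exact congrArg (fun t => HomologicalComplex.Hom.f t p) (lift₀_fst φ f h)
  · refine (Category.assoc _ _ _).trans ((congrArg (_ ≫ ·) (mapCoconeIso_f_snd F φ p)).trans ?_)
    refine ((F.map_comp _ _).symm.trans ((congrArg F.map (lift₀_f_snd φ f h p)).trans (F.map_zero _ _))).trans ?_
    exact (lift₀_f_snd ((MC F).map φ) ((MC F).map f) _ p).symm

/-- Comparison of cycles, componentwise. -/
noncomputable def cyc (p : ℕ) (D : Sq A) : (MC F).obj (D.cycles p) ⟶ ((MS F).obj D).cycles p :=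
  ((MS F).obj D).liftCycles ((MC F).map (D.iCycles p)) (p + 1) (by simp)
    (((MC F).map_comp (D.iCycles p) (D.d p (p + 1))).symm.trans
      ((congrArg (MC F).map (D.iCycles_d p (p + 1))).trans ((MC F).map_zero _ _)))

@[reassoc (attr := simp)]
lemma cyc_i (p : ℕ) (D : Sq A) :
    cyc F p D ≫ ((MS F).obj D).iCycles p = (MC F).map (D.iCycles p) :=
  ((MS F).obj D).liftCycles_i _ _ _ _

lemma cyc_naturality (p : ℕ) {D D' : Sq A} (φ : D ⟶ D') :
    (MC F).map (HomologicalComplex.cyclesMap φ p) ≫ cyc F p D' =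
      cyc F p D ≫ HomologicalComplex.cyclesMap ((MS F).map φ) p := by
  rw [← cancel_mono (((MS F).obj D').iCycles p), Category.assoc, Category.assoc, cyc_i,
    HomologicalComplex.cyclesMap_i, cyc_i_assoc]
  exact ((MC F).map_comp _ _).symm.trans
    ((congrArg (MC F).map (HomologicalComplex.cyclesMap_i φ p)).trans ((MC F).map_comp _ _))

lemma toCycles_cyc (p q : ℕ) (D : Sq A) :
    (MC F).map (D.toCycles p q) ≫ cyc F q D = ((MS F).obj D).toCycles p q := by
  rw [← cancel_mono (((MS F).obj D).iCycles q), Category.assoc, cyc_i]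
  exact ((MC F).map_comp _ _).symm.trans
    ((congrArg (MC F).map (D.toCycles_i p q)).trans (((MS F).obj D).toCycles_i p q).symm)

/-- Comparison of cycles. -/
noncomputable def cycMap (p : ℕ) : Zf A p ⋙ MC F ⟶ MS F ⋙ Zf B p where
  app D := cyc F p D
  naturality _ _ φ := cyc_naturality F p φ

/-- Comparison of totalizations, with compatibility with the inclusion of cycles. -/
noncomputable def thetaData : ∀ (n p : ℕ),
    {θ : Tot A n p ⋙ MC F ⟶ MS F ⋙ Tot B n p //
      ∀ D, (MC F).map ((iota n p).app D) ≫ θ.app D = (cycMap F p).app D ≫ (iota n p).app ((MS F).obj D)}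
  | 0, p => ⟨cycMap F p, fun D =>
      ((congrArg (· ≫ cyc F p D) ((MC F).map_id (D.cycles p))).trans (Category.id_comp _)).trans
        (Category.comp_id _).symm⟩
  | n + 1, p =>
    let θ' := thetaData n (p + 1)
    have comm : ∀ D, (MC F).map ((psi n p).app D) ≫ θ'.1.app D =
        𝟙 _ ≫ (psi n p).app ((MS F).obj D) := fun D => by
      refine ((congrArg (· ≫ θ'.1.app D) ((MC F).map_comp (D.toCycles p (p + 1)) ((iota n (p + 1)).app D))).trans
        ((Category.assoc _ _ _).trans (congrArg (_ ≫ ·) (θ'.2 D)))).trans ?_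
      refine (Category.assoc _ _ _).symm.trans ((congrArg (· ≫ _) (toCycles_cyc F p (p + 1) D)).trans ?_)
      exact (Category.id_comp _).symm
    ⟨{ app := fun D => (mapCoconeIso F ((psi n p).app D)).hom ≫
          coconeMap ((MC F).map ((psi n p).app D)) ((psi n p).app ((MS F).obj D)) (𝟙 _) (θ'.1.app D) (comm D)
       naturality := fun D D' φ => by
        show (MC F).map (coconeMap _ _ _ _ _) ≫ _ ≫ _ = (_ ≫ coconeMap _ _ _ _ _) ≫ coconeMap _ _ _ _ _
        refine (mapCoconeIso_naturality_assoc F _ _ _ _ _ _).trans ?_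
        refine Eq.trans ?_ (Category.assoc _ _ _).symm
        refine congrArg ((mapCoconeIso F ((psi n p).app D)).hom ≫ ·) ?_
        refine (coconeMap_comp _ _ _ _ _ _ _ _ _).trans (Eq.trans ?_ (coconeMap_comp _ _ _ _ _ _ _ _ _).symm)
        congr 1
        · exact (Category.comp_id _).trans (Category.id_comp _).symm
        · exact θ'.1.naturality φ },
      fun D => by
        show (MC F).map ((iota (n + 1) p).app D) ≫ _ ≫ coconeMap _ _ _ _ _ = _
        rw [iota_succ_app, iota_succ_app]
        refine (map_lift₀_mapCoconeIso_assoc F _ _ _ _).trans ?_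
        refine (lift₀_coconeMap _ _ _ _ _ _ _).trans ?_
        refine Eq.trans ?_ (comp_lift₀ _ _ _ _).symm
        congr 1
        exact (Category.comp_id _).trans (cyc_i F p D).symm⟩

/-- Comparison of totalizations. -/
noncomputable def theta (n p : ℕ) : Tot A n p ⋙ MC F ⟶ MS F ⋙ Tot B n p := (thetaData F n p).1

lemma isIso_cycMap [PreservesFiniteLimits F] (p : ℕ) (D : Sq A) : IsIso ((cycMap F p).app D) := by
  haveI : ∀ q, IsIso (((cycMap F p).app D).f q) := fun q => by
    let ev := HomologicalComplex.eval A (ComplexShape.up ℤ) q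
    let evB := HomologicalComplex.eval B (ComplexShape.up ℤ) q
    let k : KernelFork ((D.d p (p + 1)).f q) :=
      KernelFork.ofι ((D.iCycles p).f q) (by rw [← HomologicalComplex.comp_f, D.iCycles_d]; rfl)
    have hk : IsLimit k := KernelFork.mapIsLimit _ (D.cyclesIsKernel p (p + 1) (by simp)) ev
    have h₁ := KernelFork.mapIsLimit k hk F
    have h₂ := KernelFork.mapIsLimit _ (((MS F).obj D).cyclesIsKernel p (p + 1) (by simp)) evB
    let e := h₁.conePointUniqueUpToIso h₂
    show IsIso ((cyc F p D).f q)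
    have he : (cyc F p D).f q = e.hom := by
      haveI : Mono ((((MS F).obj D).iCycles p).f q) := inferInstance
      rw [← cancel_mono ((((MS F).obj D).iCycles p).f q)]
      refine Eq.trans (congrArg (fun t => HomologicalComplex.Hom.f t q) (cyc_i F p D)) ?_
      exact (h₁.conePointUniqueUpToIso_hom_comp h₂ WalkingParallelPair.zero).symm
    rw [he]
    infer_instance
  exact HomologicalComplex.Hom.isIso_of_components _

lemma isIso_coconeMap {K L K' L' : CochainComplex B ℤ} (φ : K ⟶ L) (φ' : K' ⟶ L') (a : K ⟶ K') (b : L ⟶ L')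
    (comm : φ ≫ b = a ≫ φ') [IsIso a] [IsIso b] : IsIso (coconeMap φ φ' a b comm) := by
  refine ⟨coconeMap φ' φ (inv a) (inv b) (by rw [IsIso.eq_inv_comp, ← reassoc_of% comm, IsIso.hom_inv_id, Category.comp_id]), ?_, ?_⟩
  · rw [coconeMap_comp]; simp only [IsIso.hom_inv_id]; exact coconeMap_id φ
  · rw [coconeMap_comp]; simp only [IsIso.inv_hom_id]; exact coconeMap_id φ'

lemma isIso_theta [PreservesFiniteLimits F] (n p : ℕ) (D : Sq A) : IsIso ((theta F n p).app D) := by
  induction n generalizing p with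
  | zero => exact isIso_cycMap F p D
  | succ n ih =>
    haveI := ih (p + 1)
    haveI : IsIso ((thetaData F n (p + 1)).1.app D) := ih (p + 1)
    haveI : IsIso (𝟙 ((MC F).obj (D.X p))) := inferInstance
    exact @IsIso.comp_isIso _ _ _ _ _ _ _ (mapCoconeIso F ((psi n p).app D)).isIso_hom
      (@isIso_coconeMap _ _ _ _ _ _ _ _ _ (𝟙 ((MC F).obj (D.X p))) ((thetaData F n (p + 1)).1.app D) _
        inferInstance inferInstance)

section shift

/-- The cocone of zero is a shift, naturally. -/
noncomputable def coconeZeroIso (Φ : CochainComplex B ℤ ⥤ CochainComplex B ℤ) :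
    coconeFunctor (0 : zeroF ⟶ Φ) ≅ Φ ⋙ CategoryTheory.shiftFunctor (CochainComplex B ℤ) (-1 : ℤ) :=
  (NatIso.ofComponents (F := Φ ⋙ CategoryTheory.shiftFunctor (CochainComplex B ℤ) (-1 : ℤ))
    (G := coconeFunctor (0 : zeroF ⟶ Φ)) (fun X =>
    (CategoryTheory.shiftFunctor (CochainComplex B ℤ) (-1 : ℤ)).mapIso
      { hom := CochainComplex.mappingCone.inr (0 : (0 : CochainComplex B ℤ) ⟶ Φ.obj X)
        inv := CochainComplex.mappingCone.desc (0 : (0 : CochainComplex B ℤ) ⟶ Φ.obj X) 0 (𝟙 _) (by simp)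
        hom_inv_id := CochainComplex.mappingCone.inr_desc _ _ _ _
        inv_hom_id := HomologicalComplex.hom_ext _ _ fun p => by
          refine CochainComplex.mappingCone.ext_from _ (p + 1) p rfl ?_ ?_
          · exact ((HomologicalComplex.eval B (ComplexShape.up ℤ) (p + 1)).map_isZero (isZero_zero _)).eq_of_src _ _
          · simp })
    (fun f => by
      show (CategoryTheory.shiftFunctor (CochainComplex B ℤ) (-1 : ℤ)).map _ ≫ (CategoryTheory.shiftFunctor (CochainComplex B ℤ) (-1 : ℤ)).map _ =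
        (CategoryTheory.shiftFunctor (CochainComplex B ℤ) (-1 : ℤ)).map _ ≫ (CategoryTheory.shiftFunctor (CochainComplex B ℤ) (-1 : ℤ)).map _
      rw [← Functor.map_comp, ← Functor.map_comp]
      congr 1
      refine HomologicalComplex.hom_ext _ _ fun p => ?_
      simp [inr_f_map_f])).symm

variable (B) in
/-- Iterated cocones of zero are iterated shifts. -/
noncomputable def SfunIso : ∀ n : ℕ, Sfun B n ≅ CategoryTheory.shiftFunctor (CochainComplex B ℤ) (-(n : ℤ))
  | 0 => (shiftFunctorZero' (CochainComplex B ℤ) (-((0 : ℕ) : ℤ)) (by simp)).symm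
  | n + 1 => coconeZeroIso (Sfun B n) ≪≫ Functor.isoWhiskerRight (SfunIso n) _ ≪≫
      (shiftFunctorAdd' (CochainComplex B ℤ) (-(n : ℤ)) (-1) (-((n + 1 : ℕ) : ℤ)) (by push_cast; omega)).symm

end shift

end Groth.Agent.H16Derived.CdShift
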