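import Groth.Agent.H16Derived.CdShift.Compare
import Groth.Agent.H16Derived.CdShift.Ext
import Mathlib.Algebra.Homology.DerivedCategory.Fractions

/-!
# `RF` and `LG⟦-n⟧` for functors of finite cohomological dimension
-/

set_option autoImplicit false
set_option linter.style.haveILetI false

universe w w' v v' u u'

open CategoryTheory CategoryTheory.Limits

namespace Groth.Agent.H16Derived.CdShift

variable {A : Type u} [Category.{v} A] [Abelian A] [HasDerivedCategory.{w} A]
  {B : Type u'} [Category.{v'} B] [Abelian B] [HasDerivedCategory.{w'} B]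

lemma hfrac_left (P : CochainComplex A ℤ → Prop)
    (hres : ∀ X, ∃ (M : CochainComplex A ℤ) (s : M ⟶ X), HomologicalComplex.quasiIso A _ s ∧ P M)
    {M M' : CochainComplex A ℤ} (f : DerivedCategory.Q.obj M ⟶ DerivedCategory.Q.obj M') :
    ∃ (N : CochainComplex A ℤ) (s : N ⟶ M) (g : N ⟶ M'), HomologicalComplex.quasiIso A _ s ∧ P N ∧
      DerivedCategory.Q.map s ≫ f = DerivedCategory.Q.map g := by
  obtain ⟨X', s, hs, g, rfl⟩ := DerivedCategory.right_fac f
  obtain ⟨N, t, ht, hN⟩ := hres X'
  haveI : QuasiIso s := (DerivedCategory.isIso_Q_map_iff_quasiIso _ s).1 hs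
  haveI : QuasiIso t := ht
  exact ⟨N, t ≫ s, t ≫ g, quasiIso_comp (hφ := ‹_›) (hφ' := ‹_›) t s, hN, by simp⟩

lemma hfrac_right (P : CochainComplex A ℤ → Prop)
    (hres : ∀ X, ∃ (M : CochainComplex A ℤ) (s : X ⟶ M), HomologicalComplex.quasiIso A _ s ∧ P M)
    {M M' : CochainComplex A ℤ} (f : DerivedCategory.Q.obj M ⟶ DerivedCategory.Q.obj M') :
    ∃ (N : CochainComplex A ℤ) (g : M ⟶ N) (s : M' ⟶ N), HomologicalComplex.quasiIso A _ s ∧ P N ∧
      f ≫ DerivedCategory.Q.map s = DerivedCategory.Q.map g := by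
  obtain ⟨Y', g, s, hs, rfl⟩ := DerivedCategory.left_fac f
  obtain ⟨N, t, ht, hN⟩ := hres Y'
  haveI : QuasiIso s := (DerivedCategory.isIso_Q_map_iff_quasiIso _ s).1 hs
  haveI : QuasiIso t := ht
  exact ⟨N, g ≫ t, s ≫ t, quasiIso_comp (hφ := ‹_›) (hφ' := ‹_›) s t, hN, by simp⟩

variable [EnoughInjectives A] (F : A ⥤ B) [F.Additive] [PreservesFiniteLimits F] (n : ℕ)
  (hdim : ∀ (X : A) (i : ℕ), n < i → IsZero ((F.rightDerived i).obj X))

/-- A complex of acyclic objects. -/
def IsAc (K : CochainComplex A ℤ) : Prop := ∀ i, AcyclicLES.IsAcyclic F (K.X i)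

include hdim in
lemma exists_isAc_res (X : CochainComplex A ℤ) :
    ∃ (M : CochainComplex A ℤ) (s : X ⟶ M), HomologicalComplex.quasiIso A _ s ∧ IsAc F M :=
  ⟨Tc n X, jc n X, quasiIso_jc n X, isAcyclic_Tc n F hdim X⟩

/-- The unit at the level of complexes, from the homotopy category. -/
noncomputable def unitC (G : DerivedCategory A ⥤ DerivedCategory B)
    (α : F.mapHomotopyCategory (ComplexShape.up ℤ) ⋙ DerivedCategory.Qh ⟶ DerivedCategory.Qh ⋙ G) :
    MC F ⋙ DerivedCategory.Q ⟶ DerivedCategory.Q ⋙ G where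
  app K := (DerivedCategory.quotientCompQhIso B).inv.app ((MC F).obj K) ≫
    DerivedCategory.Qh.map ((F.mapHomotopyCategoryFactors (ComplexShape.up ℤ)).inv.app K) ≫
    α.app ((HomotopyCategory.quotient A (ComplexShape.up ℤ)).obj K) ≫
    G.map ((DerivedCategory.quotientCompQhIso A).hom.app K)
  naturality K L f := by
    have h₁ : DerivedCategory.Qh.map ((HomotopyCategory.quotient B _).map ((MC F).map f)) ≫
        DerivedCategory.Qh.map ((F.mapHomotopyCategoryFactors (ComplexShape.up ℤ)).inv.app L) =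
        DerivedCategory.Qh.map ((F.mapHomotopyCategoryFactors (ComplexShape.up ℤ)).inv.app K) ≫
          DerivedCategory.Qh.map ((F.mapHomotopyCategory (ComplexShape.up ℤ)).map
            ((HomotopyCategory.quotient A _).map f)) :=
      (DerivedCategory.Qh.map_comp _ _).symm.trans ((congrArg DerivedCategory.Qh.map
        ((F.mapHomotopyCategoryFactors (ComplexShape.up ℤ)).inv.naturality f)).trans
          (DerivedCategory.Qh.map_comp _ _))
    have h₂ : DerivedCategory.Qh.map ((F.mapHomotopyCategory (ComplexShape.up ℤ)).map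
            ((HomotopyCategory.quotient A _).map f)) ≫ α.app _ =
        α.app _ ≫ G.map (DerivedCategory.Qh.map ((HomotopyCategory.quotient A _).map f)) :=
      α.naturality ((HomotopyCategory.quotient A _).map f)
    have h₃ : G.map (DerivedCategory.Qh.map ((HomotopyCategory.quotient A _).map f)) ≫
        G.map ((DerivedCategory.quotientCompQhIso A).hom.app L) =
        G.map ((DerivedCategory.quotientCompQhIso A).hom.app K) ≫ G.map (DerivedCategory.Q.map f) := by
      rw [← G.map_comp, ← G.map_comp, DerivedCategory.quotientCompQhIso_hom_naturality]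
    show DerivedCategory.Q.map ((MC F).map f) ≫ _ = (_ ≫ _ ≫ _ ≫ _) ≫ G.map (DerivedCategory.Q.map f)
    rw [DerivedCategory.quotientCompQhIso_inv_naturality_assoc, reassoc_of% h₁, reassoc_of% h₂, h₃]
    simp only [Category.assoc]

include hdim in
theorem exists_RF₀ : ∃ (G : DerivedCategory A ⥤ DerivedCategory B)
    (α : MC F ⋙ DerivedCategory.Q ⟶ DerivedCategory.Q ⋙ G), ∀ K, IsAc F K → IsIso (α.app K) := by
  have hn : ∀ X : A, IsZero ((F.rightDerived (n + 1)).obj X) := fun X => hdim X _ (Nat.lt_succ_self n)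
  haveI := FinCD.hasPointwiseRightDerivedFunctor.{w'} F hn
  refine ⟨(F.mapHomotopyCategory (ComplexShape.up ℤ) ⋙ DerivedCategory.Qh).totalRightDerived
    DerivedCategory.Qh (HomotopyCategory.quasiIso A (ComplexShape.up ℤ)),
    unitC F _ ((F.mapHomotopyCategory (ComplexShape.up ℤ) ⋙ DerivedCategory.Qh).totalRightDerivedUnit
      DerivedCategory.Qh (HomotopyCategory.quasiIso A (ComplexShape.up ℤ))), fun K hK => ?_⟩
  haveI := FinCD.isIso_unit F hn _
    ((F.mapHomotopyCategory (ComplexShape.up ℤ) ⋙ DerivedCategory.Qh).totalRightDerivedUnit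
      DerivedCategory.Qh (HomotopyCategory.quasiIso A (ComplexShape.up ℤ))) K hK
  dsimp only [unitC]
  infer_instance

variable [(F.rightDerived n).Additive]

section

variable (G : DerivedCategory A ⥤ DerivedCategory B)
  (α : MC F ⋙ DerivedCategory.Q ⟶ DerivedCategory.Q ⋙ G) (hα : ∀ K, IsAc F K → IsIso (α.app K))

include hdim hα in
lemma isIso_α (K : CochainComplex A ℤ) : IsIso (α.app (Tc n K)) := hα _ (isAcyclic_Tc n F hdim K)

/-- The comparison with the shift. -/
noncomputable def rho : DerivedCategory.Q ⋙ G ⟶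
    MC (F.rightDerived n) ⋙ DerivedCategory.Q ⋙ CategoryTheory.shiftFunctor (DerivedCategory B) (-(n : ℤ)) where
  app K := G.map (DerivedCategory.Q.map (jc n K)) ≫ @inv _ _ _ _ _ (isIso_α F n hdim G α hα K) ≫
    DerivedCategory.Q.map (cmpC n F K) ≫
      ((DerivedCategory.Q (C := B)).commShiftIso (-(n : ℤ))).hom.app _
  naturality K L f := by
    haveI := isIso_α F n hdim G α hα K
    haveI := isIso_α F n hdim G α hα L
    let t := (Tot A n 0).map (Icmap f)
    have h₁ : G.map (DerivedCategory.Q.map f) ≫ G.map (DerivedCategory.Q.map (jc n L)) =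
        G.map (DerivedCategory.Q.map (jc n K)) ≫ G.map (DerivedCategory.Q.map t) := by
      rw [← G.map_comp, ← G.map_comp, ← Functor.map_comp, ← Functor.map_comp, jc_naturality]
    have h₂ : G.map (DerivedCategory.Q.map t) ≫ inv (α.app (Tc n L)) =
        inv (α.app (Tc n K)) ≫ DerivedCategory.Q.map ((MC F).map t) := by
      rw [IsIso.eq_inv_comp, ← Category.assoc, IsIso.comp_inv_eq]
      exact (α.naturality t).symm
    have h₃ : DerivedCategory.Q.map ((MC F).map t) ≫ DerivedCategory.Q.map (cmpC n F L) =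
        DerivedCategory.Q.map (cmpC n F K) ≫ DerivedCategory.Q.map
          ((CategoryTheory.shiftFunctor (CochainComplex B ℤ) (-(n : ℤ))).map ((MC (F.rightDerived n)).map f)) := by
      rw [← Functor.map_comp, ← Functor.map_comp, cmpC_naturality]
    have h₄ := ((DerivedCategory.Q (C := B)).commShiftIso (-(n : ℤ))).hom.naturality ((MC (F.rightDerived n)).map f)
    show G.map (DerivedCategory.Q.map f) ≫ _ = (_ ≫ _ ≫ _ ≫ _) ≫
      (DerivedCategory.Q.map ((MC (F.rightDerived n)).map f))⟦(-(n : ℤ))⟧'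
    rw [reassoc_of% h₁, reassoc_of% h₂, reassoc_of% h₃]
    simp only [Category.assoc]
    exact congrArg (_ ≫ ·) (congrArg (_ ≫ ·) (congrArg (_ ≫ ·) h₄))

lemma isIso_rho (K : CochainComplex A ℤ) (hK : ∀ q, IsP F n (K.X q)) :
    IsIso ((rho F n hdim G α hα).app K) := by
  haveI := quasiIso_cmpC n F K hK
  haveI := quasiIso_jc n K
  haveI : IsIso (DerivedCategory.Q.map (cmpC n F K)) := (DerivedCategory.isIso_Q_map_iff_quasiIso _ _).2 ‹_›
  haveI : IsIso (DerivedCategory.Q.map (jc n K)) := (DerivedCategory.isIso_Q_map_iff_quasiIso _ _).2 ‹_›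
  haveI := isIso_α F n hdim G α hα K
  dsimp only [rho]
  infer_instance

/-- The counit of the left derived functor. -/
noncomputable def counitL : DerivedCategory.Q ⋙ G ⋙ CategoryTheory.shiftFunctor (DerivedCategory B) (n : ℤ) ⟶
    MC (F.rightDerived n) ⋙ DerivedCategory.Q where
  app K := ((rho F n hdim G α hα).app K)⟦(n : ℤ)⟧' ≫
    (shiftFunctorCompIsoId (DerivedCategory B) (-(n : ℤ)) (n : ℤ) (by omega)).hom.app _
  naturality K L f := by
    show ((G.map (DerivedCategory.Q.map f)))⟦(n : ℤ)⟧' ≫ _ = (_ ≫ _) ≫ _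
    rw [← Functor.map_comp_assoc, show G.map (DerivedCategory.Q.map f) ≫ (rho F n hdim G α hα).app L = _
      from (rho F n hdim G α hα).naturality f, Functor.map_comp, Category.assoc, Category.assoc]
    exact congrArg (((rho F n hdim G α hα).app K)⟦(n : ℤ)⟧' ≫ ·)
      ((shiftFunctorCompIsoId (DerivedCategory B) (-(n : ℤ)) (n : ℤ) (by omega)).hom.naturality _)

end

include hdim in
/-- Both derived functors exist and differ by a shift. -/
theorem exists_derived (hP : ∀ X : A, ∃ (Y : A) (p : Y ⟶ X), Epi p ∧ IsP F n Y) :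
    ∃ (G : DerivedCategory A ⥤ DerivedCategory B)
      (α : MC F ⋙ DerivedCategory.Q ⟶ DerivedCategory.Q ⋙ G)
      (β : DerivedCategory.Q ⋙ G ⋙ CategoryTheory.shiftFunctor (DerivedCategory B) (n : ℤ) ⟶
        MC (F.rightDerived n) ⋙ DerivedCategory.Q),
      G.IsRightDerivedFunctor α (HomologicalComplex.quasiIso A (ComplexShape.up ℤ)) ∧
      (G ⋙ CategoryTheory.shiftFunctor (DerivedCategory B) (n : ℤ)).IsLeftDerivedFunctor β
        (HomologicalComplex.quasiIso A (ComplexShape.up ℤ)) := by
  obtain ⟨G, α, hα⟩ := exists_RF₀ F n hdim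
  refine ⟨G, α, counitL F n hdim G α hα, ?_, ?_⟩
  · exact Ext.isRightDerivedFunctor DerivedCategory.Q (HomologicalComplex.quasiIso A (ComplexShape.up ℤ))
      (IsAc F) (exists_isAc_res F n hdim) (fun f _ _ => hfrac_right _ (exists_isAc_res F n hdim) f) G α hα
  · have hres : ∀ X, ∃ (M : CochainComplex A ℤ) (s : M ⟶ X),
        HomologicalComplex.quasiIso A _ s ∧ ∀ q, IsP F n (M.X q) := exists_isP_res F hdim hP
    refine Ext.isLeftDerivedFunctor DerivedCategory.Q (HomologicalComplex.quasiIso A (ComplexShape.up ℤ))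
      (fun K => ∀ q, IsP F n (K.X q)) hres (fun f _ _ => hfrac_left _ hres f)
      (G ⋙ CategoryTheory.shiftFunctor (DerivedCategory B) (n : ℤ)) (counitL F n hdim G α hα) fun K hK => ?_
    haveI := isIso_rho F n hdim G α hα K hK
    dsimp only [counitL]
    infer_instance

end Groth.Agent.H16Derived.CdShift
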