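import Groth.Agent.H16Derived.CdShift.Cocone
import Mathlib.Algebra.Homology.ShortComplex.ExactFunctor

/-!
# Totalization of sequences of complexes
-/

set_option autoImplicit false
set_option linter.style.haveILetI false

universe v v' u u'

open CategoryTheory CategoryTheory.Limits CategoryTheory.Pretriangulated HomologicalComplex
open Groth.Agent.H16Derived.Res
open scoped ZeroObject

namespace Groth.Agent.H16Derived.CdShift

variable (A : Type u) [Category.{v} A] [Abelian A]

/-- Sequences of complexes. -/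
abbrev Sq := CochainComplex (CochainComplex A ℤ) ℕ

/-- The cycles of a sequence. -/
noncomputable abbrev Zf (p : ℕ) : Sq A ⥤ CochainComplex A ℤ :=
  HomologicalComplex.cyclesFunctor (CochainComplex A ℤ) (ComplexShape.up ℕ) p

/-- The terms of a sequence. -/
noncomputable abbrev Ef (p : ℕ) : Sq A ⥤ CochainComplex A ℤ :=
  HomologicalComplex.eval (CochainComplex A ℤ) (ComplexShape.up ℕ) p

/-- The cohomology of a sequence. -/
noncomputable abbrev Hf (p : ℕ) : Sq A ⥤ CochainComplex A ℤ :=
  HomologicalComplex.homologyFunctor (CochainComplex A ℤ) (ComplexShape.up ℕ) p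

variable {A}

/-- The differential to cycles. -/
noncomputable def toC (p q : ℕ) : Ef A p ⟶ Zf A q where
  app D := D.toCycles p q
  naturality D D' φ := by
    show φ.f p ≫ D'.toCycles p q = D.toCycles p q ≫ HomologicalComplex.cyclesMap φ q
    rw [← cancel_mono (D'.iCycles q)]
    simp

/-- The inclusion of cycles. -/
noncomputable def iC (p : ℕ) : Zf A p ⟶ Ef A p where
  app D := D.iCycles p
  naturality D D' φ := HomologicalComplex.cyclesMap_i φ p

lemma iC_toC (p q : ℕ) : iC (A := A) p ≫ toC p q = 0 := by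
  ext D : 2
  show D.iCycles p ≫ D.toCycles p q = 0
  rw [← cancel_mono (D.iCycles q)]
  simp

variable (A) in
/-- The totalization with its inclusion of cycles. -/
noncomputable def totData : ℕ → Σ T : ℕ → (Sq A ⥤ CochainComplex A ℤ), ∀ p, Zf A p ⟶ T p
  | 0 => ⟨fun p => Zf A p, fun p => 𝟙 _⟩
  | n + 1 =>
    ⟨fun p => coconeFunctor (toC p (p + 1) ≫ (totData n).2 (p + 1)),
      fun p => coconeLift _ (iC p) (by rw [← Category.assoc, iC_toC, zero_comp])⟩

variable (A) in
/-- `Tot` of the part `p, …, p + n` of a sequence, cut by cycles at the end. -/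
noncomputable def Tot (n p : ℕ) : Sq A ⥤ CochainComplex A ℤ := (totData A n).1 p

/-- The inclusion of cycles in the totalization. -/
noncomputable def iota (n p : ℕ) : Zf A p ⟶ Tot A n p := (totData A n).2 p

/-- The transition. -/
noncomputable def psi (n p : ℕ) : Ef A p ⟶ Tot A n (p + 1) := toC p (p + 1) ≫ iota n (p + 1)

lemma psi_app (n p : ℕ) (D : Sq A) :
    (psi n p).app D = D.toCycles p (p + 1) ≫ (iota n (p + 1)).app D := rfl

lemma iota_succ_app (n p : ℕ) (D : Sq A) :
    (iota (n + 1) p).app D = lift₀ ((psi n p).app D) (D.iCycles p)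
      ((Category.assoc _ _ _).symm.trans ((congrArg (· ≫ (iota n (p + 1)).app D)
        (NatTrans.congr_app (iC_toC p (p + 1)) D)).trans zero_comp)) := rfl

/-- The zero functor. -/
noncomputable abbrev zeroF : CochainComplex A ℤ ⥤ CochainComplex A ℤ :=
  (Functor.const _).obj 0

variable (A) in
/-- The iterated cocone of zero. -/
noncomputable def Sfun : ℕ → (CochainComplex A ℤ ⥤ CochainComplex A ℤ)
  | 0 => 𝟭 _
  | n + 1 => coconeFunctor (0 : zeroF ⟶ Sfun n)

lemma Sfun_map_zero_of_isZero (n : ℕ) {X : CochainComplex A ℤ} (h : IsZero X) :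
    IsZero ((Sfun A n).obj X) := by
  induction n with
  | zero => exact h
  | succ n ih =>
    rw [IsZero.iff_id_eq_zero]
    refine cocone_hom_ext ?_ fun p => ?_
    · exact (isZero_zero _).eq_of_tgt _ _
    · exact ((HomologicalComplex.eval A (ComplexShape.up ℤ) (p + -1)).map_isZero ih).eq_of_tgt _ _

/-- The projection to the last cohomology, with its main property. -/
noncomputable def qData : ∀ (n p m : ℕ), p + n = m →
    {q : Tot A n p ⟶ Hf A m ⋙ Sfun A n //
      ∀ (p₀ : ℕ), p₀ + 1 = p → ∀ D : Sq A, D.toCycles p₀ p ≫ (iota n p).app D ≫ q.app D = 0}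
  | 0, p, m, h => by
    subst h
    exact ⟨
      { app := fun D => D.homologyπ p
        naturality := fun D D' φ => (HomologicalComplex.homologyπ_naturality φ p).symm },
      fun p₀ _ D => (congrArg (D.toCycles p₀ p ≫ ·) (Category.id_comp _)).trans
        (HomologicalComplex.toCycles_comp_homologyπ D p₀ p)⟩
  | n + 1, p, m, h =>
    let q' := qData n (p + 1) m (by omega)
    ⟨{ app := fun D => coconeMap ((psi n p).app D) 0 0 (q'.1.app D)
          ((Category.assoc _ _ _).trans ((q'.2 p rfl D).trans zero_comp.symm))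
       naturality := fun D D' φ => by
        show coconeMap _ _ _ _ _ ≫ coconeMap _ _ _ _ _ = coconeMap _ _ _ _ _ ≫ coconeMap _ _ _ _ _
        rw [coconeMap_comp, coconeMap_comp]
        congr 1
        · exact (isZero_zero _).eq_of_tgt _ _
        · exact q'.1.naturality φ },
      fun p₀ _ D => by
        show D.toCycles p₀ p ≫ (iota (n + 1) p).app D ≫ coconeMap _ _ _ _ _ = 0
        rw [iota_succ_app]
        refine (congrArg (D.toCycles p₀ p ≫ ·) ((lift₀_coconeMap _ _ _ _ _ _ _).trans ?_)).trans comp_zero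
        refine Eq.trans ?_ (lift₀_zero _)
        congr 1
        exact comp_zero⟩

/-- The projection to the last cohomology. -/
noncomputable def qTot (n p m : ℕ) (h : p + n = m) : Tot A n p ⟶ Hf A m ⋙ Sfun A n :=
  (qData n p m h).1

lemma toCycles_qTot (n p m : ℕ) (h : p + n = m) (p₀ : ℕ) (h₀ : p₀ + 1 = p) (D : Sq A) :
    D.toCycles p₀ p ≫ (iota n p).app D ≫ (qTot n p m h).app D = 0 :=
  (qData n p m h).2 p₀ h₀ D

lemma qTot_succ_app (n p m : ℕ) (h : p + (n + 1) = m) (D : Sq A) :
    (qTot (n + 1) p m h).app D = coconeMap ((psi n p).app D)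
      (0 : (0 : CochainComplex A ℤ) ⟶ (Sfun A n).obj (D.homology m)) 0 ((qTot n (p + 1) m (by omega)).app D)
      ((Category.assoc _ _ _).trans ((toCycles_qTot n (p + 1) m (by omega) p rfl D).trans zero_comp.symm)) := rfl

lemma epi_toCycles_of_exactAt (D : Sq A) (p : ℕ) (h : D.ExactAt (p + 1)) :
    Epi (D.toCycles p (p + 1)) :=
  Abelian.epi_of_cokernel_π_eq_zero _ (IsZero.eq_of_tgt
    (((D.exactAt_iff_isZero_homology _).1 h).of_iso
      (IsColimit.coconePointUniqueUpToIso (D.homologyIsCokernel p (p + 1) (by simp)) (colimit.isColimit _)).symm) _ _)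

/-- The main property of the totalization. -/
theorem exists_kernel_data : ∀ (n p m : ℕ) (h : p + n = m) (D : Sq A),
    (∀ i, p < i → i < m → D.ExactAt i) →
    ∃ (W N : CochainComplex A ℤ) (w : W ⟶ D.cycles p) (u : W ⟶ N) (j : N ⟶ (Tot A n p).obj D)
      (hj : j ≫ (qTot n p m h).app D = 0),
      (ShortComplex.mk j ((qTot n p m h).app D) hj).ShortExact ∧ QuasiIso u ∧ Mono w ∧
      u ≫ j = w ≫ (iota n p).app D ∧ (0 < n → IsIso w) ∧
      (n = 0 → w ≫ D.homologyπ p = 0) ∧
      ∀ p₀, p₀ + 1 = p → (0 < n → D.ExactAt p) →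
        ∃ r : D.X p₀ ⟶ W, Epi r ∧ r ≫ w = D.toCycles p₀ p
  | 0, p, m, h, D, _ => by
    obtain rfl : p = m := h
    let S : ShortComplex (CochainComplex A ℤ) :=
      ShortComplex.mk (kernel.ι (D.homologyπ p)) (D.homologyπ p) (kernel.condition _)
    have hS : S.ShortExact :=
      { exact := ShortComplex.exact_of_f_is_kernel _ (kernelIsKernel _)
        mono_f := inferInstanceAs (Mono (kernel.ι (D.homologyπ p)))
        epi_g := inferInstanceAs (Epi (D.homologyπ p)) }
    refine ⟨kernel (D.homologyπ p), kernel (D.homologyπ p), kernel.ι _, 𝟙 _, kernel.ι _,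
      kernel.condition _, hS, inferInstance, inferInstance, ?_, fun h => absurd h (lt_irrefl 0),
      fun _ => kernel.condition _, fun p₀ h₀ _ => ?_⟩
    · exact (Category.id_comp _).trans (Category.comp_id _).symm
    · refine ⟨kernel.lift _ (D.toCycles p₀ p) (HomologicalComplex.toCycles_comp_homologyπ D p₀ p), ?_,
        kernel.lift_ι _ _ _⟩
      have hex : (ShortComplex.mk (D.toCycles p₀ p) (D.homologyπ p)
          (HomologicalComplex.toCycles_comp_homologyπ D p₀ p)).Exact :=
        ShortComplex.exact_of_g_is_cokernel _ (D.homologyIsCokernel p₀ p (by simp [← h₀]))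
      exact hex.epi_kernelLift
  | n + 1, p, m, h, D, hD => by
    obtain ⟨W', N', w', u', j', hj', hS', hu', hwm', hc', -, -, hr'⟩ :=
      exists_kernel_data n (p + 1) m (by omega) D fun i hi hi' => hD i (by omega) hi'
    obtain ⟨r, hr, hrw⟩ := hr' p rfl fun hn => hD (p + 1) (by omega) (by omega)
    haveI := hu'
    let S₁ : ShortComplex (CochainComplex A ℤ) :=
      ShortComplex.mk (𝟙 (D.X p)) (0 : D.X p ⟶ 0) comp_zero
    have hS₁ : S₁.ShortExact :=
      ShortComplex.Splitting.shortExact
        { r := 𝟙 _, s := 0, f_r := Category.comp_id _, s_g := (isZero_zero _).eq_of_src _ _, id := by simp [S₁] }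
    let S₂ := ShortComplex.mk j' ((qTot n (p + 1) m (by omega)).app D) hj'
    have hψ : r ≫ u' ≫ j' = (psi n p).app D := by
      rw [hc', reassoc_of% hrw]
      rfl
    let φ : S₁ ⟶ S₂ :=
      { τ₁ := r ≫ u'
        τ₂ := (psi n p).app D
        τ₃ := 0
        comm₁₂ := by
          show (r ≫ u') ≫ j' = 𝟙 _ ≫ (psi n p).app D
          rw [Category.id_comp, Category.assoc, hψ]
        comm₂₃ := by
          show (psi n p).app D ≫ (qTot n (p + 1) m _).app D = 0 ≫ 0
          exact (Category.assoc _ _ _).trans ((toCycles_qTot n (p + 1) m (by omega) p rfl D).trans zero_comp.symm) }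
    obtain ⟨w₀, hw⟩ := shortExact_coconeMap hS₁ hS' φ
    have hker : D.iCycles p ≫ r = 0 := by
      haveI := hwm'
      rw [← cancel_mono w', zero_comp, Category.assoc, hrw]
      exact NatTrans.congr_app (iC_toC p (p + 1)) D
    let T : ShortComplex (CochainComplex A ℤ) := ShortComplex.mk (D.iCycles p) r hker
    have hT : T.ShortExact := by
      haveI : Mono T.f := inferInstanceAs (Mono (D.iCycles p))
      haveI : Epi T.g := hr
      refine { exact := ?_ }
      refine ShortComplex.exact_of_f_is_kernel _ (KernelFork.IsLimit.ofι _ _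
        (fun {Z} g hg => D.liftCycles g (p + 1) (by simp) ?_) (fun {Z} g hg => D.liftCycles_i g _ _ _)
        (fun {Z} g hg b hb => by rw [← cancel_mono (D.iCycles p), hb]; exact (D.liftCycles_i g _ _ _).symm))
      have : g ≫ D.toCycles p (p + 1) = 0 := by
        rw [← hrw, ← Category.assoc]
        exact (congrArg (· ≫ w') hg).trans zero_comp
      rw [← D.toCycles_i p (p + 1), ← Category.assoc, this, zero_comp]
    refine ⟨D.cycles p, CochainComplex.mappingCocone φ.τ₁, 𝟙 _, lift₀ (r ≫ u') (D.iCycles p) (by rw [reassoc_of% hker, zero_comp]),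
      coconeMap φ.τ₁ φ.τ₂ S₁.f S₂.f φ.comm₁₂, w₀, hw, quasiIso_lift₀ hT u', inferInstance, ?_,
      fun _ => inferInstance, fun h => absurd h (Nat.succ_ne_zero n), fun p₀ h₀ hex => ?_⟩
    · rw [Category.id_comp, iota_succ_app]
      refine (lift₀_coconeMap _ _ _ _ _ _ _).trans ?_
      congr 1
      exact Category.comp_id _
    · subst h₀
      exact ⟨D.toCycles p₀ (p₀ + 1), epi_toCycles_of_exactAt D p₀ (hex (Nat.succ_pos n)),
        Category.comp_id _⟩

/-- The totalization of a resolution. -/
theorem quasiIso_iota (n p m : ℕ) (h : p + n = m) (D : Sq A)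
    (hD : ∀ i, p < i → i ≤ m → D.ExactAt i) : QuasiIso ((iota n p).app D) := by
  cases n with
  | zero => exact inferInstanceAs (QuasiIso (𝟙 (D.cycles p)))
  | succ n =>
    obtain ⟨W, N, w, u, j, hj, hS, hu, -, hc, hw, -, -⟩ :=
      exists_kernel_data (n + 1) p m h D fun i hi hi' => hD i hi hi'.le
    haveI := hw (Nat.succ_pos n)
    haveI := hS.mono_f
    have hz : IsZero ((Hf A m ⋙ Sfun A (n + 1)).obj D) :=
      Sfun_map_zero_of_isZero (n + 1) ((D.exactAt_iff_isZero_homology m).1 (hD m (by omega) le_rfl))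
    haveI : Epi j := hS.exact.epi_f (hz.eq_of_tgt _ _)
    haveI : IsIso j := isIso_of_mono_of_epi (C := CochainComplex A ℤ) j
    have e : (iota (n + 1) p).app D = inv w ≫ u ≫ j := (IsIso.eq_inv_comp w).2 hc.symm
    rw [e]
    haveI : IsIso (inv w) := inferInstance
    have hiw : QuasiIso (inv w) := by
      rw [quasiIso_iff]
      intro i
      rw [quasiIsoAt_iff_isIso_homologyMap]
      exact ((HomologicalComplex.homologyFunctor A (ComplexShape.up ℤ) i).mapIso (asIso w).symm).isIso_hom
    exact quasiIso_comp (hφ := hiw) (hφ' := quasiIso_comp (hφ := hu) (hφ' := inferInstance) u j) _ _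

/-- The totalization of a sequence with cohomology only at the end. -/
theorem quasiIso_qTot (n : ℕ) (D : Sq A) (hD : ∀ i, i < n → D.ExactAt i) :
    QuasiIso ((qTot n 0 n (zero_add n)).app D) := by
  obtain ⟨W, N, w, u, j, hj, hS, hu, hwm, hc, hw, hw0, -⟩ :=
    exists_kernel_data n 0 n (zero_add n) D fun i _ hi => hD i hi
  have hz : IsZero W := by
    rw [IsZero.iff_id_eq_zero, ← cancel_mono w, Category.id_comp, zero_comp]
    rcases Nat.eq_zero_or_pos n with rfl | hn
    · haveI : IsIso (D.homologyπ 0) := D.isIso_homologyπ 0 0 (by simp) (D.shape _ _ (by simp))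
      rw [← cancel_mono (D.homologyπ 0), hw0 rfl, zero_comp]
    · have h := (D.exactAt_iff_isZero_homology 0).1 (hD 0 hn)
      haveI : IsIso (D.homologyπ 0) := D.isIso_homologyπ 0 0 (by simp) (D.shape _ _ (by simp))
      exact (h.of_iso (asIso (D.homologyπ 0))).eq_of_tgt _ _
  haveI := hu
  have hN : N.Acyclic := fun i => by
    rw [HomologicalComplex.exactAt_iff_isZero_homology]
    exact ((HomologicalComplex.homologyFunctor A (ComplexShape.up ℤ) i).map_isZero hz).of_iso
      (asIso (HomologicalComplex.homologyMap u i)).symm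
  have h0 : ∀ k, IsZero (N.homology k) := fun k => (HomologicalComplex.exactAt_iff_isZero_homology _ _).1 (hN k)
  refine ⟨fun i => (quasiIsoAt_iff_isIso_homologyMap _ i).2 ?_⟩
  have h₁ : Mono (HomologicalComplex.homologyMap ((qTot n 0 n (zero_add n)).app D) i) :=
    (hS.homology_exact₂ i).mono_g ((h0 i).eq_of_src _ _)
  have h₂ : Epi (HomologicalComplex.homologyMap ((qTot n 0 n (zero_add n)).app D) i) :=
    (hS.homology_exact₃ i (i + 1) (by simp)).epi_f ((h0 (i + 1)).eq_of_tgt _ _)
  exact isIso_of_mono_of_epi _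

end Groth.Agent.H16Derived.CdShift
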